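import Groth.Agent.Lib.Helper97.DefLCI.OfAlgL

/-!
# Base change of ring data of deformations along an arbitrary morphism of Artinian bases
-/

set_option autoImplicit false

namespace Groth.Agent.Lib.Helper97.DefHull

open CategoryTheory CategoryTheory.Limits AlgebraicGeometry TensorProduct
open Groth.Agent.Lib.Helper97.DefAff Groth.Agent.Lib.Helper97.DefLift
open Groth.Agent.Lib.Helper97.DefTors Groth.Agent.Lib.Helper97.DefLCI

universe u

section Ring

variable {A₁ A₂ R₁ R₂ B₀ : Type u} [CommRing A₁] [CommRing A₂] [CommRing R₁] [CommRing R₂]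
  [CommRing B₀]

/-- The comparison map `A₂ ⊗[A₁] R₁ → R₂` of a morphism of flat deformations over different bases is
bijective. -/
theorem bijective_productMap (m₁ : Ideal A₁) (m₂ : Ideal A₂)
    (p : A₁ →+* A₂) (a₁ : A₁ →+* R₁) (a₂ : A₂ →+* R₂) (q : R₁ →+* R₂) (π₁ : R₁ →+* B₀)
    (π₂ : R₂ →+* B₀) (hnil : IsNilpotent m₂)
    (hres : ∀ x : A₂, ∃ y : A₁, x - p y ∈ m₂)
    (hploc : ∀ y ∈ m₁, p y ∈ m₂)
    (hfl₂ : a₂.Flat) (hπ₁ : Function.Surjective π₁)
    (hk₁ : RingHom.ker π₁ = m₁.map a₁) (hk₂ : RingHom.ker π₂ = m₂.map a₂)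
    (hqa : ∀ c, q (a₁ c) = a₂ (p c)) (hqπ : ∀ x, π₂ (q x) = π₁ x) :
    letI := a₁.toAlgebra
    letI := p.toAlgebra
    letI := a₂.toAlgebra
    ∃ ψ : A₂ ⊗[A₁] R₁ →ₗ[A₂] R₂, Function.Bijective ψ ∧ ∀ (a : A₂) (r : R₁), ψ (a ⊗ₜ r) = a₂ a * q r := by
  letI := a₁.toAlgebra
  letI := p.toAlgebra
  letI := a₂.toAlgebra
  letI : Algebra A₁ R₂ := (a₂.comp p).toAlgebra
  haveI : IsScalarTower A₁ A₂ R₂ := IsScalarTower.of_algebraMap_eq fun x => rfl
  have hflat : Module.Flat A₂ R₂ := hfl₂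
  let ql : R₁ →ₗ[A₁] R₂ :=
    { toFun := q
      map_add' := map_add q
      map_smul' := fun c r => by
        rw [Algebra.smul_def, map_mul, RingHom.id_apply, Algebra.smul_def]
        congr 1
        exact hqa c }
  let ψ : A₂ ⊗[A₁] R₁ →ₗ[A₂] R₂ := LinearMap.liftBaseChange A₂ ql
  have hψ : ∀ (a : A₂) (r : R₁), ψ (a ⊗ₜ r) = a₂ a * q r := by
    intro a r
    show LinearMap.liftBaseChange A₂ ql (a ⊗ₜ r) = _
    rw [LinearMap.liftBaseChange_tmul, Algebra.smul_def]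
    rfl
  refine ⟨ψ, ?_, hψ⟩
  have hmem₂ : ∀ y : R₂, y ∈ m₂ • (⊤ : Submodule A₂ R₂) ↔ π₂ y = 0 := by
    intro y
    rw [Ideal.smul_top_eq_map, Submodule.restrictScalars_mem, ← RingHom.mem_ker, hk₂]
    rfl
  have hmem₁ : ∀ y : R₁, y ∈ m₁ • (⊤ : Submodule A₁ R₁) ↔ π₁ y = 0 := by
    intro y
    rw [Ideal.smul_top_eq_map, Submodule.restrictScalars_mem, ← RingHom.mem_ker, hk₁]
    rfl
  -- decomposition of elements of the tensor product
  have hdec : ∀ x : A₂ ⊗[A₁] R₁, ∃ r : R₁,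
      x - (1 : A₂) ⊗ₜ[A₁] r ∈ m₂ • (⊤ : Submodule A₂ (A₂ ⊗[A₁] R₁)) := by
    intro x
    induction x with
    | zero => exact ⟨0, by rw [TensorProduct.tmul_zero, sub_zero]; exact Submodule.zero_mem _⟩
    | tmul a r =>
      obtain ⟨c, hc⟩ := hres a
      refine ⟨c • r, ?_⟩
      have h1 : (1 : A₂) ⊗ₜ[A₁] (c • r) = (p c) ⊗ₜ[A₁] r := by
        rw [← TensorProduct.smul_tmul, Algebra.smul_def, mul_one]
        rfl
      rw [h1, ← TensorProduct.sub_tmul]
      have h2 : (a - p c) ⊗ₜ[A₁] r = (a - p c) • ((1 : A₂) ⊗ₜ[A₁] r) := by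
        rw [TensorProduct.smul_tmul', smul_eq_mul, mul_one]
      rw [h2]
      exact Submodule.smul_mem_smul hc Submodule.mem_top
    | add x y hx hy =>
      obtain ⟨r, hr⟩ := hx
      obtain ⟨s, hs⟩ := hy
      refine ⟨r + s, ?_⟩
      rw [TensorProduct.tmul_add]
      have : x + y - ((1 : A₂) ⊗ₜ[A₁] r + (1 : A₂) ⊗ₜ[A₁] s) =
          (x - (1 : A₂) ⊗ₜ[A₁] r) + (y - (1 : A₂) ⊗ₜ[A₁] s) := by abel
      rw [this]
      exact Submodule.add_mem _ hr hs
  have hψm : ∀ y ∈ m₂ • (⊤ : Submodule A₂ (A₂ ⊗[A₁] R₁)), ψ y ∈ m₂ • (⊤ : Submodule A₂ R₂) := by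
    intro y hy
    refine Submodule.smul_induction_on hy ?_ ?_
    · intro c hc z _
      rw [map_smul]
      exact Submodule.smul_mem_smul hc Submodule.mem_top
    · intro y z hy hz
      rw [map_add]
      exact Submodule.add_mem _ hy hz
  refine bijective_of_flat_of_nilpotent m₂ hnil ψ ?_ ?_
  · intro y
    obtain ⟨r, hr⟩ := hπ₁ (π₂ y)
    refine ⟨(1 : A₂) ⊗ₜ[A₁] r, ?_⟩
    rw [hmem₂, hψ, map_one, one_mul, map_sub, hqπ, hr, sub_self]
  · intro x hx
    obtain ⟨r, hr⟩ := hdec x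
    have h1 : ψ ((1 : A₂) ⊗ₜ[A₁] r) ∈ m₂ • (⊤ : Submodule A₂ R₂) := by
      have h2 := hψm _ hr
      rw [map_sub] at h2
      have h3 := Submodule.sub_mem _ hx h2
      rwa [sub_sub_cancel] at h3
    rw [hψ, map_one, one_mul, hmem₂, hqπ, ← hmem₁] at h1
    have h4 : (1 : A₂) ⊗ₜ[A₁] r ∈ m₂ • (⊤ : Submodule A₂ (A₂ ⊗[A₁] R₁)) := by
      refine Submodule.smul_induction_on h1 ?_ ?_
      · intro c hc s _
        have h5 : (1 : A₂) ⊗ₜ[A₁] (c • s) = (p c) • ((1 : A₂) ⊗ₜ[A₁] s) := by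
          rw [← TensorProduct.smul_tmul, Algebra.smul_def, mul_one, TensorProduct.smul_tmul',
            smul_eq_mul, mul_one]
          rfl
        rw [h5]
        exact Submodule.smul_mem_smul (hploc c hc) Submodule.mem_top
      · intro y z hy hz
        rw [TensorProduct.tmul_add]
        exact Submodule.add_mem _ hy hz
    have := Submodule.add_mem _ hr h4
    rwa [sub_add_cancel] at this

/-- A morphism of flat deformations over different bases exhibits the target as the pushout. -/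
theorem isPushout_of_deformation_hom (m₁ : Ideal A₁) (m₂ : Ideal A₂)
    (p : A₁ →+* A₂) (a₁ : A₁ →+* R₁) (a₂ : A₂ →+* R₂) (q : R₁ →+* R₂) (π₁ : R₁ →+* B₀)
    (π₂ : R₂ →+* B₀) (hnil : IsNilpotent m₂)
    (hres : ∀ x : A₂, ∃ y : A₁, x - p y ∈ m₂)
    (hploc : ∀ y ∈ m₁, p y ∈ m₂)
    (hfl₂ : a₂.Flat) (hπ₁ : Function.Surjective π₁)
    (hk₁ : RingHom.ker π₁ = m₁.map a₁) (hk₂ : RingHom.ker π₂ = m₂.map a₂)
    (hqa : ∀ c, q (a₁ c) = a₂ (p c)) (hqπ : ∀ x, π₂ (q x) = π₁ x) :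
    IsPushout (CommRingCat.ofHom a₁) (CommRingCat.ofHom p) (CommRingCat.ofHom q)
      (CommRingCat.ofHom a₂) := by
  obtain ⟨ψ, hψbij, hψ⟩ := bijective_productMap m₁ m₂ p a₁ a₂ q π₁ π₂ hnil hres hploc hfl₂ hπ₁
    hk₁ hk₂ hqa hqπ
  letI := a₁.toAlgebra
  letI := p.toAlgebra
  letI := a₂.toAlgebra
  letI : Algebra A₁ R₂ := (a₂.comp p).toAlgebra
  haveI : IsScalarTower A₁ A₂ R₂ := IsScalarTower.of_algebraMap_eq fun x => rfl
  let fA : A₂ →ₐ[A₁] R₂ := IsScalarTower.toAlgHom A₁ A₂ R₂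
  let gA : R₁ →ₐ[A₁] R₂ := { q with commutes' := fun c => hqa c }
  let Ψ : A₂ ⊗[A₁] R₁ →ₐ[A₁] R₂ := Algebra.TensorProduct.productMap fA gA
  have hΨ : ∀ x, Ψ x = ψ x := by
    intro x
    induction x with
    | zero => rw [map_zero, map_zero]
    | tmul a r =>
      rw [hψ]
      exact Algebra.TensorProduct.productMap_apply_tmul fA gA a r
    | add x y hx hy => rw [map_add, map_add, hx, hy]
  have hΨbij : Function.Bijective Ψ := by
    have : (Ψ : A₂ ⊗[A₁] R₁ → R₂) = ψ := funext hΨ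
    rw [this]
    exact hψbij
  let e : A₂ ⊗[A₁] R₁ ≃+* R₂ := RingEquiv.ofBijective Ψ.toRingHom hΨbij
  have h0 := CommRingCat.isPushout_tensorProduct A₁ A₂ R₁
  have h1 : IsPushout (CommRingCat.ofHom p) (CommRingCat.ofHom a₁) (CommRingCat.ofHom a₂)
      (CommRingCat.ofHom q) := by
    refine h0.of_iso (Iso.refl _) (Iso.refl _) (Iso.refl _) e.toCommRingCatIso ?_ ?_ ?_ ?_
    · rw [Iso.refl_hom, Iso.refl_hom, Category.comp_id, Category.id_comp]
    · rw [Iso.refl_hom, Iso.refl_hom, Category.comp_id, Category.id_comp]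
    · rw [Iso.refl_hom, Category.id_comp]
      refine CommRingCat.hom_ext (RingHom.ext fun a => ?_)
      show Ψ (a ⊗ₜ[A₁] (1 : R₁)) = a₂ a
      rw [hΨ, hψ, map_one, mul_one]
    · rw [Iso.refl_hom, Category.id_comp]
      refine CommRingCat.hom_ext (RingHom.ext fun r => ?_)
      show Ψ ((1 : A₂) ⊗ₜ[A₁] r) = q r
      rw [hΨ, hψ, map_one, one_mul]
  exact h1.flip

end Ring

variable {Λ k : Type u} [CommRing Λ] [Field k] [Algebra Λ k]
variable {B₀ : Type u} [CommRing B₀] [Algebra k B₀]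

/-- Base change of ring data along an arbitrary morphism of the base: any compatible ring map
identifies the base change. -/
theorem nonempty_baseChange_iso_of_hom {A₁ A₂ : ArtFun.Art Λ k} (p : A₁ ⟶ A₂)
    (d₁ : AlgDataL A₁ B₀) (d₂ : AlgDataL A₂ B₀) (q : d₁.R →+* d₂.R)
    (hqa : ∀ c, q (d₁.a c) = d₂.a (p.toAlgHom c)) (hqπ : ∀ x, d₂.π (q x) = d₁.π x) :
    Nonempty (((ofAlgL d₁).baseChange p).Iso (ofAlgL d₂)) := by
  have hpo : IsPushout (CommRingCat.ofHom d₁.a) (CommRingCat.ofHom p.toAlgHom.toRingHom)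
      (CommRingCat.ofHom q) (CommRingCat.ofHom d₂.a) := by
    refine isPushout_of_deformation_hom (RingHom.ker A₁.res.toRingHom)
      (RingHom.ker A₂.res.toRingHom) p.toAlgHom.toRingHom d₁.a d₂.a q d₁.π d₂.π
      (isNilpotent_ker_of_isArtinianRing _) ?_ ?_ d₂.flat d₁.π_surj d₁.ker_π d₂.ker_π hqa hqπ
    · intro x
      obtain ⟨y, hy⟩ := A₁.res_surjective (A₂.res x)
      refine ⟨y, ?_⟩
      rw [RingHom.mem_ker, map_sub]
      show A₂.res x - A₂.res (p y) = 0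
      rw [ArtFun.Art.res_app, hy, sub_self]
    · intro y hy
      rw [RingHom.mem_ker] at hy ⊢
      show A₂.res (p y) = 0
      rw [ArtFun.Art.res_app]
      exact hy
  have hpb : IsPullback (Spec.map (CommRingCat.ofHom q)) (Spec.map (CommRingCat.ofHom d₂.a))
      (Spec.map (CommRingCat.ofHom d₁.a)) (Spec.map (CommRingCat.ofHom p.toAlgHom.toRingHom)) :=
    isPullback_SpecMap_of_isPushout _ _ _ _ hpo
  let qS : (ofAlgL d₂).total ⟶ (ofAlgL d₁).total := Spec.map (CommRingCat.ofHom q)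
  have hpb' : IsPullback qS (ofAlgL d₂).f (ofAlgL d₁).f (ArtFun.Art.specMap p) := hpb
  have hiq : (ofAlgL d₂).i ≫ qS = (ofAlgL d₁).i := by
    show Spec.map (CommRingCat.ofHom d₂.π) ≫ Spec.map (CommRingCat.ofHom q) =
      Spec.map (CommRingCat.ofHom d₁.π)
    rw [← Spec.map_comp, ← CommRingCat.ofHom_comp]
    congr 2
    exact RingHom.ext hqπ
  let big := IsPullback.of_hasPullback (ofAlgL d₁).f (ArtFun.Art.specMap p)
  refine ⟨⟨big.isoIsPullback _ _ hpb', ?_, ?_⟩⟩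
  · exact IsPullback.isoIsPullback_hom_snd _ _ big hpb'
  · have hfst := IsPullback.isoIsPullback_hom_fst _ _ big hpb'
    have hsnd := IsPullback.isoIsPullback_hom_snd _ _ big hpb'
    apply hpb'.hom_ext
    · rw [Category.assoc, hfst, ArtFun.DefSch.baseChange_i_fst, hiq]
    · rw [Category.assoc, hsnd]
      exact (ArtFun.DefSch.baseChange_i_f (ofAlgL d₁) p).trans (ofAlgL d₂).i_f.symm

end Groth.Agent.Lib.Helper97.DefHull
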