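import Groth.Agent.Lib.Helper97.DefHull.BaseChange
import Groth.Prelude.Def_ArtFun2

/-!
# Ring maps from isomorphisms of base changes; the condition `H0`
-/

set_option autoImplicit false

namespace Groth.Agent.Lib.Helper97.DefHull

open CategoryTheory CategoryTheory.Limits AlgebraicGeometry
open Groth.Agent.Lib.Helper97.DefAff Groth.Agent.Lib.Helper97.DefLift
open Groth.Agent.Lib.Helper97.DefTors Groth.Agent.Lib.Helper97.DefLCI

universe u

variable {Λ k : Type u} [CommRing Λ] [Field k] [Algebra Λ k]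
variable {B₀ : Type u} [CommRing B₀] [Algebra k B₀]

/-- The deformation functor of `Spec B₀`. -/
noncomputable abbrev DefF (Λ : Type u) [CommRing Λ] (k : Type u) [Field k] [Algebra Λ k]
    (B₀ : Type u) [CommRing B₀] [Algebra k B₀] : ArtFun.Art Λ k ⥤ Type (u + 1) :=
  ArtFun.defFunctor (Λ := Λ) (Spec (CommRingCat.of B₀))
    (Spec.map (CommRingCat.ofHom (algebraMap k B₀)))

/-- An isomorphism from a base change gives a compatible ring map. -/
theorem exists_hom_of_baseChange_iso {A₁ A₂ : ArtFun.Art Λ k} (p : A₁ ⟶ A₂)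
    (d₁ : AlgDataL A₁ B₀) (d₂ : AlgDataL A₂ B₀)
    (β : ((ofAlgL d₁).baseChange p).Iso (ofAlgL d₂)) :
    ∃ q : d₁.R →+* d₂.R, (∀ c, q (d₁.a c) = d₂.a (p.toAlgHom c)) ∧
      (∀ x, d₂.π (q x) = d₁.π x) := by
  let g : Spec (CommRingCat.of d₂.R) ⟶ Spec (CommRingCat.of d₁.R) :=
    β.iso.inv ≫ pullback.fst (ofAlgL d₁).f (ArtFun.Art.specMap p)
  have hg1 : g ≫ Spec.map (CommRingCat.ofHom d₁.a) =
      Spec.map (CommRingCat.ofHom d₂.a) ≫
        Spec.map (CommRingCat.ofHom p.toAlgHom.toRingHom) := by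
    have h1 : β.iso.inv ≫ pullback.snd (ofAlgL d₁).f (ArtFun.Art.specMap p) = (ofAlgL d₂).f := by
      rw [Iso.inv_comp_eq]
      exact β.hom_f.symm
    show (β.iso.inv ≫ pullback.fst (ofAlgL d₁).f (ArtFun.Art.specMap p)) ≫ (ofAlgL d₁).f =
      (ofAlgL d₂).f ≫ ArtFun.Art.specMap p
    rw [Category.assoc, pullback.condition, ← Category.assoc, h1]
  have hg2 : Spec.map (CommRingCat.ofHom d₂.π) ≫ g = Spec.map (CommRingCat.ofHom d₁.π) := by
    have h1 : (ofAlgL d₂).i ≫ β.iso.inv = ((ofAlgL d₁).baseChange p).i := by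
      rw [Iso.comp_inv_eq]
      exact β.i_hom.symm
    show (ofAlgL d₂).i ≫ β.iso.inv ≫ pullback.fst (ofAlgL d₁).f (ArtFun.Art.specMap p) =
      (ofAlgL d₁).i
    rw [← Category.assoc, h1, ArtFun.DefSch.baseChange_i_fst]
  let q : CommRingCat.of d₁.R ⟶ CommRingCat.of d₂.R := Spec.preimage g
  have hq : Spec.map q = g := Spec.map_preimage g
  refine ⟨q.hom, ?_, ?_⟩
  · intro c
    rw [← hq, ← Spec.map_comp, ← Spec.map_comp] at hg1
    have := Spec.map_injective hg1
    exact congrArg (fun f => f.hom c) this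
  · intro x
    rw [← hq, ← Spec.map_comp] at hg2
    have := Spec.map_injective hg2
    exact congrArg (fun f => f.hom x) this

/-- A compatible ring map between ring data over the same base gives an isomorphism of
deformations. -/
theorem nonempty_iso_of_hom {A : ArtFun.Art Λ k} (d d' : AlgDataL A B₀) (q : d.R →+* d'.R)
    (hqa : ∀ c, q (d.a c) = d'.a c) (hqπ : ∀ x, d'.π (q x) = d.π x) :
    Nonempty ((ofAlgL d).Iso (ofAlgL d')) := by
  obtain ⟨β⟩ := nonempty_baseChange_iso_of_hom (𝟙 A) d d' q hqa hqπ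
  exact ⟨(ArtFun.DefSch.baseChangeId (ofAlgL d)).symm.trans β⟩

/-- Conversely an isomorphism of deformations gives a compatible ring map. -/
theorem exists_hom_of_iso {A : ArtFun.Art Λ k} (d d' : AlgDataL A B₀)
    (β : (ofAlgL d).Iso (ofAlgL d')) :
    ∃ q : d.R →+* d'.R, (∀ c, q (d.a c) = d'.a c) ∧ (∀ x, d'.π (q x) = d.π x) :=
  exists_hom_of_baseChange_iso (𝟙 A) d d' ((ArtFun.DefSch.baseChangeId (ofAlgL d)).trans β)

/-- The ring data of `Spec B₀` itself over the residue field. -/
noncomputable def baseData : AlgDataL (ArtFun.Art.base Λ k) B₀ where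
  R := B₀
  a := algebraMap k B₀
  π := RingHom.id B₀
  flat := by
    have h : (algebraMap k B₀).Flat := RingHom.flat_algebraMap_iff.mpr inferInstance
    exact h
  π_surj := Function.surjective_id
  ker_π := by
    have h1 : RingHom.ker (ArtFun.Art.base Λ k).res.toRingHom = ⊥ := by
      rw [eq_bot_iff]
      intro x hx
      exact hx
    rw [h1, Ideal.map_bot]
    rw [eq_bot_iff]
    intro x hx
    exact hx
  π_a := fun c => rfl

theorem h0_defF : ArtFun.H0 (DefF Λ k B₀) := by
  refine ⟨⟨(ofAlgL baseData).cl⟩, ⟨?_⟩⟩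
  intro y y'
  induction y using Quotient.inductionOn with
  | h ξ =>
    induction y' using Quotient.inductionOn with
    | h ξ' =>
      obtain ⟨d, ⟨e⟩⟩ := exists_algData_isoL ξ
      obtain ⟨d', ⟨e'⟩⟩ := exists_algData_isoL ξ'
      have hker : RingHom.ker (ArtFun.Art.base Λ k).res.toRingHom = ⊥ := by
        rw [eq_bot_iff]
        intro x hx
        exact hx
      have hbij' : Function.Bijective d'.π := by
        refine ⟨?_, d'.π_surj⟩
        rw [RingHom.injective_iff_ker_eq_bot, d'.ker_π, hker, Ideal.map_bot]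
      let E := RingEquiv.ofBijective d'.π hbij'
      let q : d.R →+* d'.R := (E.symm : B₀ →+* d'.R).comp d.π
      have hqπ : ∀ x, d'.π (q x) = d.π x := fun x => E.apply_symm_apply (d.π x)
      have hqa : ∀ c, q (d.a c) = d'.a c := by
        intro c
        apply hbij'.1
        rw [hqπ, d.π_a, d'.π_a]
      obtain ⟨β⟩ := nonempty_iso_of_hom d d' q hqa hqπ
      exact Quotient.sound ⟨(e.symm.trans β).trans e'⟩

end Groth.Agent.Lib.Helper97.DefHull
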