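import Groth.Agent.Lib.Helper97.DefHull.Basic
import Groth.Agent.S2020

/-!
# Gluing flat ring data over a fibre product of rings (Milnor patching)
-/

set_option autoImplicit false

namespace Groth.Agent.Lib.Helper97.DefHull

open TensorProduct
open Groth.Agent.Lib.Helper3.MilnorGlue Groth.Agent.Lib.Helper63

universe u

section Ring

variable {B A₁ A₂ A R₁ R₂ R : Type u} [CommRing B] [CommRing A₁] [CommRing A₂] [CommRing A]
  [CommRing R₁] [CommRing R₂] [CommRing R]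

/-- Milnor patching for flat algebras: ring-level statement. -/
theorem exists_glue_ring (p₁ : B →+* A₁) (p₂ : B →+* A₂) (f₁ : A₁ →+* A) (f₂ : A₂ →+* A)
    (a₁ : A₁ →+* R₁) (a₂ : A₂ →+* R₂) (a : A →+* R) (q₁ : R₁ →+* R) (q₂ : R₂ →+* R)
    (hw : ∀ b, f₁ (p₁ b) = f₂ (p₂ b))
    (hinj : ∀ b b', p₁ b = p₁ b' → p₂ b = p₂ b' → b = b')
    (hsurj : ∀ x y, f₁ x = f₂ y → ∃ b, p₁ b = x ∧ p₂ b = y)
    (hf₂ : Function.Surjective f₂)
    (hq₁ : ∀ c, q₁ (a₁ c) = a (f₁ c)) (hq₂ : ∀ c, q₂ (a₂ c) = a (f₂ c))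
    (flat₁ : a₁.Flat) (flat₂ : a₂.Flat)
    (bij₁ : letI := a₁.toAlgebra; letI := f₁.toAlgebra; letI := a.toAlgebra
      ∃ ψ : A ⊗[A₁] R₁ →ₗ[A] R, Function.Bijective ψ ∧ ∀ (x : A) (r : R₁), ψ (x ⊗ₜ r) = a x * q₁ r)
    (bij₂ : letI := a₂.toAlgebra; letI := f₂.toAlgebra; letI := a.toAlgebra
      ∃ ψ : A ⊗[A₂] R₂ →ₗ[A] R, Function.Bijective ψ ∧ ∀ (x : A) (r : R₂), ψ (x ⊗ₜ r) = a x * q₂ r) :
    ∃ (G : Type u) (_ : CommRing G) (aG : B →+* G) (s₁ : G →+* R₁) (s₂ : G →+* R₂),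
      aG.Flat ∧ (∀ b, s₁ (aG b) = a₁ (p₁ b)) ∧ (∀ b, s₂ (aG b) = a₂ (p₂ b)) ∧
      Function.Surjective s₁ ∧ RingHom.ker s₁ ≤ (RingHom.ker p₁).map aG ∧
      (∀ g, q₁ (s₁ g) = q₂ (s₂ g)) ∧
      (∀ r₁ r₂, q₁ r₁ = q₂ r₂ → ∃ g, s₁ g = r₁ ∧ s₂ g = r₂) ∧
      (∀ g g', s₁ g = s₁ g' → s₂ g = s₂ g' → g = g') := by
  letI iBA₁ : Algebra B A₁ := p₁.toAlgebra
  letI iBA₂ : Algebra B A₂ := p₂.toAlgebra
  letI iA₁A : Algebra A₁ A := f₁.toAlgebra
  letI iA₂A : Algebra A₂ A := f₂.toAlgebra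
  letI iBA : Algebra B A := (f₁.comp p₁).toAlgebra
  haveI : IsScalarTower B A₁ A := IsScalarTower.of_algebraMap_eq (fun _ => rfl)
  haveI : IsScalarTower B A₂ A := IsScalarTower.of_algebraMap_eq (fun b => hw b)
  have hsq : EtMil.IsFibreSquare B A₁ A₂ A := by
    refine ⟨hf₂, fun x y hxy => ?_⟩
    obtain ⟨b, hb1, hb2⟩ := hsurj x y hxy
    refine ⟨b, ⟨hb1, hb2⟩, ?_⟩
    rintro b' ⟨hb'1, hb'2⟩
    exact hinj b' b (hb'1.trans hb1.symm) (hb'2.trans hb2.symm)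
  letI iA₁R₁ : Algebra A₁ R₁ := a₁.toAlgebra
  letI iBR₁ : Algebra B R₁ := (a₁.comp p₁).toAlgebra
  haveI : IsScalarTower B A₁ R₁ := IsScalarTower.of_algebraMap_eq (fun _ => rfl)
  letI iA₂R₂ : Algebra A₂ R₂ := a₂.toAlgebra
  letI iBR₂ : Algebra B R₂ := (a₂.comp p₂).toAlgebra
  haveI : IsScalarTower B A₂ R₂ := IsScalarTower.of_algebraMap_eq (fun _ => rfl)
  letI iAR : Algebra A R := a.toAlgebra
  have hfl₁ : Module.Flat A₁ R₁ := flat₁
  have hfl₂ : Module.Flat A₂ R₂ := flat₂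
  obtain ⟨ψ₁, hψ₁bij, hψ₁⟩ := bij₁
  obtain ⟨ψ₂, hψ₂bij, hψ₂⟩ := bij₂
  let e₁ : A ⊗[A₁] R₁ ≃ₗ[A] R := LinearEquiv.ofBijective ψ₁ hψ₁bij
  let e₂ : A ⊗[A₂] R₂ ≃ₗ[A] R := LinearEquiv.ofBijective ψ₂ hψ₂bij
  let φ : A ⊗[A₁] R₁ ≃ₗ[A] A ⊗[A₂] R₂ := e₁.trans e₂.symm
  have hmem : ∀ x : R₁ × R₂, x ∈ EtMil.glue B φ ↔ q₁ x.1 = q₂ x.2 := by
    intro x
    show φ ((1 : A) ⊗ₜ[A₁] x.1) = (1 : A) ⊗ₜ[A₂] x.2 ↔ _
    show e₂.symm (e₁ ((1 : A) ⊗ₜ[A₁] x.1)) = (1 : A) ⊗ₜ[A₂] x.2 ↔ _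
    rw [LinearEquiv.symm_apply_eq]
    show ψ₁ ((1 : A) ⊗ₜ[A₁] x.1) = ψ₂ ((1 : A) ⊗ₜ[A₂] x.2) ↔ _
    rw [hψ₁, hψ₂, map_one, one_mul, one_mul]
  have hflatG : Module.Flat B ↥(EtMil.glue B φ) :=
    (Groth.Agent.S2020.result B A₁ A₂ A hsq).1 R₁ R₂ φ hfl₁ hfl₂
  -- the ring
  let G : Subring (R₁ × R₂) :=
    RingHom.eqLocus (q₁.comp (RingHom.fst R₁ R₂)) (q₂.comp (RingHom.snd R₁ R₂))
  have hG : ∀ x : R₁ × R₂, x ∈ G ↔ q₁ x.1 = q₂ x.2 := fun x => Iff.rfl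
  let aG : B →+* G := RingHom.codRestrict ((a₁.comp p₁).prod (a₂.comp p₂)) G (fun b => by
    show q₁ (a₁ (p₁ b)) = q₂ (a₂ (p₂ b))
    rw [hq₁, hq₂, hw])
  let s₁ : G →+* R₁ := (RingHom.fst R₁ R₂).comp G.subtype
  let s₂ : G →+* R₂ := (RingHom.snd R₁ R₂).comp G.subtype
  have hq₂surj : Function.Surjective q₂ := by
    intro r
    obtain ⟨z, rfl⟩ := hψ₂bij.2 r
    obtain ⟨r₂, rfl⟩ := exists_one_tmul (R := A₂) (S := A) (M := R₂) hf₂ z
    exact ⟨r₂, by rw [hψ₂, map_one, one_mul]⟩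
  letI iBG : Algebra B G := aG.toAlgebra
  -- the linear equivalence between the glued module and the ring
  let ε : ↥(EtMil.glue B φ) ≃ₗ[B] G :=
    { toFun := fun x => ⟨x.1, (hmem x.1).mp x.2⟩
      invFun := fun g => ⟨g.1, (hmem g.1).mpr g.2⟩
      left_inv := fun x => rfl
      right_inv := fun g => rfl
      map_add' := fun x y => rfl
      map_smul' := fun b x => by
        apply Subtype.ext
        rfl }
  have hflat : Module.Flat B G := Module.Flat.of_linearEquiv ε.symm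
  refine ⟨G, inferInstance, aG, s₁, s₂, hflat, fun b => rfl, fun b => rfl, ?_, ?_,
    fun g => g.2, ?_, ?_⟩
  · intro r₁
    obtain ⟨r₂, hr₂⟩ := hq₂surj (q₁ r₁)
    exact ⟨⟨(r₁, r₂), hr₂.symm⟩, rfl⟩
  · intro g hg
    have hg1 : g.1.1 = 0 := hg
    let x : ↥(EtMil.glue B φ) := ε.symm g
    have hx : LinearMap.liftBaseChange A₁ (EtMil.glueFst B φ) ((1 : A₁) ⊗ₜ[B] x) = 0 := by
      rw [LinearMap.liftBaseChange_tmul, one_smul]
      exact hg1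
    have hx0 : ((1 : A₁) ⊗ₜ[B] x : A₁ ⊗[B] ↥(EtMil.glue B φ)) = 0 :=
      liftBaseChange_fst_injective hsq φ (hx.trans (map_zero _).symm)
    have hx1 := Milnor.mem_smul_top_of_tmul_eq_zero (Milnor.surjective_left hsq)
      ↥(EtMil.glue B φ) x hx0
    have key : ∀ y ∈ (RingHom.ker (algebraMap B A₁)) • (⊤ : Submodule B ↥(EtMil.glue B φ)),
        ε y ∈ (RingHom.ker p₁).map aG := by
      intro y hy
      refine Submodule.smul_induction_on hy ?_ ?_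
      · intro b hb z _
        rw [map_smul]
        show aG b * ε z ∈ _
        exact Ideal.mul_mem_right _ _ (Ideal.mem_map_of_mem aG hb)
      · intro y z hy hz
        rw [map_add]
        exact Ideal.add_mem _ hy hz
    have := key x hx1
    rwa [LinearEquiv.apply_symm_apply] at this
  · intro r₁ r₂ h
    exact ⟨⟨(r₁, r₂), h⟩, rfl, rfl⟩
  · intro g g' h1 h2
    exact Subtype.ext (Prod.ext h1 h2)

end Ring

open Groth.Agent.Lib.Helper97.DefAff Groth.Agent.Lib.Helper97.DefLCI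

variable {Λ k : Type u} [CommRing Λ] [Field k] [Algebra Λ k]
variable {B₀ : Type u} [CommRing B₀] [Algebra k B₀]

lemma art_hres {A₁ A₂ : ArtFun.Art Λ k} (p : A₁ ⟶ A₂) (x : A₂.carrier) :
    ∃ y : A₁.carrier, x - p.toAlgHom.toRingHom y ∈ RingHom.ker A₂.res.toRingHom := by
  obtain ⟨y, hy⟩ := A₁.res_surjective (A₂.res x)
  refine ⟨y, ?_⟩
  rw [RingHom.mem_ker, map_sub]
  show A₂.res x - A₂.res (p y) = 0
  rw [ArtFun.Art.res_app, hy, sub_self]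

lemma art_hploc {A₁ A₂ : ArtFun.Art Λ k} (p : A₁ ⟶ A₂) (y : A₁.carrier)
    (hy : y ∈ RingHom.ker A₁.res.toRingHom) :
    p.toAlgHom.toRingHom y ∈ RingHom.ker A₂.res.toRingHom := by
  rw [RingHom.mem_ker] at hy ⊢
  show A₂.res (p y) = 0
  rw [ArtFun.Art.res_app]
  exact hy

/-- The comparison map of a morphism of ring data over a morphism of bases is bijective. -/
theorem bijective_productMap_art {A₁ A₂ : ArtFun.Art Λ k} (p : A₁ ⟶ A₂)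
    (d₁ : AlgDataL A₁ B₀) (d₂ : AlgDataL A₂ B₀) (q : d₁.R →+* d₂.R)
    (hqa : ∀ c, q (d₁.a c) = d₂.a (p.toAlgHom c)) (hqπ : ∀ x, d₂.π (q x) = d₁.π x) :
    letI := d₁.a.toAlgebra
    letI := p.toAlgHom.toRingHom.toAlgebra
    letI := d₂.a.toAlgebra
    ∃ ψ : A₂.carrier ⊗[A₁.carrier] d₁.R →ₗ[A₂.carrier] d₂.R, Function.Bijective ψ ∧
      ∀ (a : A₂.carrier) (r : d₁.R), ψ (a ⊗ₜ r) = d₂.a a * q r :=
  bijective_productMap (RingHom.ker A₁.res.toRingHom) (RingHom.ker A₂.res.toRingHom)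
    p.toAlgHom.toRingHom d₁.a d₂.a q d₁.π d₂.π (isNilpotent_ker_of_isArtinianRing _)
    (art_hres p) (art_hploc p) d₂.flat d₁.π_surj d₁.ker_π d₂.ker_π hqa hqπ

/-- Milnor patching for ring data of deformations over a fibre product of Artinian bases. -/
theorem exists_glue {B A' A'' A : ArtFun.Art Λ k} {p' : B ⟶ A'} {p'' : B ⟶ A''} {f' : A' ⟶ A}
    {f'' : A'' ⟶ A} (h : ArtFun.Art.IsFibreProd p' p'' f' f'') (hf'' : Function.Surjective f'')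
    (d₁ : AlgDataL A' B₀) (d₂ : AlgDataL A'' B₀) (d : AlgDataL A B₀)
    (q₁ : d₁.R →+* d.R) (q₂ : d₂.R →+* d.R)
    (hq₁a : ∀ c, q₁ (d₁.a c) = d.a (f'.toAlgHom c)) (hq₁π : ∀ x, d.π (q₁ x) = d₁.π x)
    (hq₂a : ∀ c, q₂ (d₂.a c) = d.a (f''.toAlgHom c)) (hq₂π : ∀ x, d.π (q₂ x) = d₂.π x) :
    ∃ (D : AlgDataL B B₀) (s₁ : D.R →+* d₁.R) (s₂ : D.R →+* d₂.R),
      (∀ b, s₁ (D.a b) = d₁.a (p'.toAlgHom b)) ∧ (∀ g, d₁.π (s₁ g) = D.π g) ∧
      (∀ b, s₂ (D.a b) = d₂.a (p''.toAlgHom b)) ∧ (∀ g, d₂.π (s₂ g) = D.π g) ∧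
      (∀ g, q₁ (s₁ g) = q₂ (s₂ g)) ∧
      (∀ r₁ r₂, q₁ r₁ = q₂ r₂ → ∃ g, s₁ g = r₁ ∧ s₂ g = r₂) ∧
      (∀ g g', s₁ g = s₁ g' → s₂ g = s₂ g' → g = g') := by
  obtain ⟨G, _, aG, s₁, s₂, hflat, hs₁a, hs₂a, hs₁surj, hkers₁, hqs, hfib, hjinj⟩ :=
    exists_glue_ring p'.toAlgHom.toRingHom p''.toAlgHom.toRingHom f'.toAlgHom.toRingHom
      f''.toAlgHom.toRingHom d₁.a d₂.a d.a q₁ q₂ (fun b => h.w_apply b) h.inj h.surj hf''
      hq₁a hq₂a d₁.flat d₂.flat (bijective_productMap_art f' d₁ d q₁ hq₁a hq₁π)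
      (bijective_productMap_art f'' d₂ d q₂ hq₂a hq₂π)
  have hp'surj : Function.Surjective p' := by
    intro a'
    obtain ⟨a'', ha''⟩ := hf'' (f' a')
    obtain ⟨b, hb, -⟩ := h.surj a' a'' ha''.symm
    exact ⟨b, hb⟩
  have hπa : ∀ b : B.carrier, d₁.π (s₁ (aG b)) = algebraMap k B₀ (B.res b) := by
    intro b
    rw [hs₁a, d₁.π_a]
    congr 1
    exact ArtFun.Art.res_app p' b
  have hs₂π : ∀ g : G, d₂.π (s₂ g) = d₁.π (s₁ g) := by
    intro g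
    rw [← hq₂π, ← hq₁π, hqs]
  have hker : RingHom.ker (d₁.π.comp s₁) = (RingHom.ker B.res.toRingHom).map aG := by
    apply le_antisymm
    · intro g hg
      have hg1 : s₁ g ∈ RingHom.ker d₁.π := hg
      rw [d₁.ker_π] at hg1
      have hle : (RingHom.ker A'.res.toRingHom).map d₁.a ≤
          (((RingHom.ker B.res.toRingHom).map aG).map s₁) := by
        rw [Ideal.map_le_iff_le_comap]
        intro c hc
        obtain ⟨b, rfl⟩ := hp'surj c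
        rw [Ideal.mem_comap]
        have hb : b ∈ RingHom.ker B.res.toRingHom := by
          rw [RingHom.mem_ker] at hc ⊢
          have := ArtFun.Art.res_app p' b
          exact this.symm.trans hc
        have : d₁.a (p' b) = s₁ (aG b) := (hs₁a b).symm
        rw [this]
        exact Ideal.mem_map_of_mem s₁ (Ideal.mem_map_of_mem aG hb)
      obtain ⟨g', hg', hg'eq⟩ := (Ideal.mem_map_iff_of_surjective s₁ hs₁surj).mp (hle hg1)
      have h2 : g - g' ∈ RingHom.ker s₁ := by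
        rw [RingHom.mem_ker, map_sub, hg'eq, sub_self]
      have h3 : (RingHom.ker p'.toAlgHom.toRingHom).map aG ≤
          (RingHom.ker B.res.toRingHom).map aG := by
        apply Ideal.map_mono
        intro b hb
        rw [RingHom.mem_ker] at hb ⊢
        have := ArtFun.Art.res_app p' b
        show B.res b = 0
        rw [← this]
        show A'.res (p'.toAlgHom.toRingHom b) = 0
        rw [hb, map_zero]
      have h4 := Ideal.add_mem _ hg' (h3 (hkers₁ h2))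
      rwa [add_sub_cancel] at h4
    · rw [Ideal.map_le_iff_le_comap]
      intro b hb
      rw [Ideal.mem_comap, RingHom.mem_ker, RingHom.comp_apply, hπa]
      rw [RingHom.mem_ker] at hb
      have : B.res b = 0 := hb
      rw [this, map_zero]
  let D : AlgDataL B B₀ :=
    { R := G
      a := aG
      π := d₁.π.comp s₁
      flat := hflat
      π_surj := d₁.π_surj.comp hs₁surj
      ker_π := hker
      π_a := hπa }
  exact ⟨D, s₁, s₂, hs₁a, fun g => rfl, hs₂a, hs₂π, hqs, hfib, hjinj⟩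

end Groth.Agent.Lib.Helper97.DefHull
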