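import Groth.Agent.Lib.Helper97.DefHull.Tangent3
import Groth.Agent.Lib.Helper76.SchlHullExist

/-!
# Existence of a hull for the deformation functor of an affine scheme with finite-dimensional `T¹`
-/

set_option autoImplicit false

namespace Groth.Agent.Lib.Helper97.DefHull

open CategoryTheory AlgebraicGeometry

universe u

variable (Λ k : Type u) [CommRing Λ] [Field k] [Algebra Λ k]
variable (B₀ : Type u) [CommRing B₀] [Algebra k B₀]

theorem hasHull_defF [IsNoetherianRing Λ] (hk : Function.Surjective (algebraMap Λ k))
    [Module.Finite k (CotT.T1 (CotT.canon k B₀) B₀)] :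
    ArtFun.HasHull (DefF Λ k B₀) := by
  haveI : Module.Finite Λ k := Module.Finite.of_surjective (Algebra.linearMap Λ k) hk
  have hder : Subsingleton (Derivation Λ k k) := by
    refine ⟨fun D D' => ?_⟩
    ext x
    obtain ⟨l, rfl⟩ := hk x
    rw [Derivation.map_algebraMap, Derivation.map_algebraMap]
  haveI : Module.Finite k (TC k B₀) := finite_TC_of_finite_T1 k B₀
  letI := tangentStr Λ k B₀
  exact Groth.Agent.Lib.Helper76.hasHull_of_conditions hder h0_defF s1_defF heps_defF
    (hfin_of_finite Λ k B₀)

end Groth.Agent.Lib.Helper97.DefHull
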