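import Groth.Agent.Lib.Helper97.CotT2.SmoothAway
import Mathlib

/-!
# `T¹` of a finite type algebra over a field with isolated singularities is finite-dimensional
-/

set_option autoImplicit false

namespace Groth.Agent.Lib.Helper97.DefHull

open Groth.Agent.Lib.Helper97.CotT2

universe u

section Support

variable {k B : Type u} [Field k] [CommRing B] [Algebra k B] [Algebra.FiniteType k B]

/-- A finite module over a finite type algebra over a field with finite support is
finite-dimensional. -/
theorem finite_of_finite_support (T : Type*) [AddCommGroup T] [Module B T] [Module k T]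
    [IsScalarTower k B T] [Module.Finite B T] (hfin : (Module.support B T).Finite) :
    Module.Finite k T := by
  let J : Ideal B := Module.annihilator B T
  letI iAT : Module (B ⧸ J) T := Module.quotientAnnihilator
  have t1 : IsScalarTower B (B ⧸ J) T :=
    Module.IsTorsionBySet.isScalarTower (Module.isTorsionBySet_annihilator B T)
  have t2 : IsScalarTower k (B ⧸ J) T :=
    Module.IsTorsionBySet.isScalarTower (Module.isTorsionBySet_annihilator B T)
  have : Module.Finite (B ⧸ J) T := Module.Finite.of_restrictScalars_finite B (B ⧸ J) T
  have hspec : Finite (PrimeSpectrum (B ⧸ J)) := by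
    have hinj := PrimeSpectrum.comap_injective_of_surjective (Ideal.Quotient.mk J)
      Ideal.Quotient.mk_surjective
    have hrange : Set.range (PrimeSpectrum.comap (Ideal.Quotient.mk J)) = Module.support B T := by
      rw [range_comap_of_surjective _ _ Ideal.Quotient.mk_surjective,
        Ideal.mk_ker, Module.support_eq_zeroLocus]
    have h1 : (Set.range (PrimeSpectrum.comap (Ideal.Quotient.mk J))).Finite := by
      rw [hrange]
      exact hfin
    rw [← Set.finite_univ_iff]
    apply Set.Finite.of_finite_image (f := PrimeSpectrum.comap (Ideal.Quotient.mk J))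
    · rw [Set.image_univ]
      exact h1
    · exact hinj.injOn
  have : Algebra.QuasiFinite k (B ⧸ J) :=
    Algebra.QuasiFinite.iff_finite_comap_preimage_singleton.mpr (fun x => Set.toFinite _)
  have : Module.Finite k (B ⧸ J) := Module.Finite.of_quasiFinite
  exact Module.Finite.trans (B ⧸ J) T

end Support

section T1

variable {k B : Type u} [Field k] [CommRing B] [Algebra k B] [Algebra.FiniteType k B]

theorem finite_T1_canon : Module.Finite B (CotT.T1 (CotT.canon k B) B) := by
  have : Algebra.FinitePresentation k B := Algebra.FinitePresentation.of_finiteType.mp inferInstance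
  have : IsNoetherianRing B := Algebra.FiniteType.isNoetherianRing k B
  let P := Algebra.Presentation.ofFinitePresentation k B
  obtain ⟨e⟩ := nonempty_T1_equiv P (CotT.canon k B) B
  have : Module.Finite B (CotT.T1 P B) := inferInstance
  exact Module.Finite.equiv e

/-- `T¹` is finite-dimensional when the non-smooth locus is finite. -/
theorem finite_T1_of_finite_nonsmooth (Z : Set (PrimeSpectrum B)) (hZ : Z.Finite)
    (hsm : ∀ q : PrimeSpectrum B, q ∉ Z → q ∈ Algebra.smoothLocus k B) :
    Module.Finite k (CotT.T1 (CotT.canon k B) B) := by
  have : Algebra.FinitePresentation k B := Algebra.FinitePresentation.of_finiteType.mp inferInstance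
  have := finite_T1_canon (k := k) (B := B)
  apply finite_of_finite_support (k := k) (B := B)
  refine hZ.subset ?_
  intro q hq
  by_contra hqZ
  have hq1 := hsm q hqZ
  obtain ⟨_, ⟨_, ⟨g, rfl⟩, rfl⟩, hqg, hgs⟩ :=
    PrimeSpectrum.isBasis_basic_opens.exists_subset_of_mem_open hq1
      (Algebra.isOpen_smoothLocus (R := k) (A := B))
  obtain ⟨n, hn⟩ := (forall_mem_smoothLocus_iff_exists_pow_smul_T1 (A := k) (B := B) g).mp
    (fun q' hq' => hgs hq')
  have : q ∉ Module.support B (CotT.T1 (CotT.canon k B) B) := by
    rw [Module.notMem_support_iff']
    intro m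
    refine ⟨g ^ n, ?_, hn B m⟩
    intro h
    exact hqg (q.2.mem_of_pow_mem n h)
  exact this hq

end T1

end Groth.Agent.Lib.Helper97.DefHull
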