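import Groth.Prelude.Def_ArtFun4
import Groth.Prelude.Def_ArtFun2

/-!
# Transport of deformation functors along an isomorphism of the central fibre
-/

set_option autoImplicit false

namespace Groth.Agent.Lib.Helper97.DefHull

open CategoryTheory CategoryTheory.Limits AlgebraicGeometry

universe u v

variable {Λ k : Type u} [CommRing Λ] [Field k] [Algebra Λ k]

/-- Having a hull transfers along an objectwise bijective morphism of functors. -/
theorem hasHull_of_bijective {F G : ArtFun.Art Λ k ⥤ Type v} (η : F ⟶ G)
    (hη : ∀ A, Function.Bijective (η.app A)) (h : ArtFun.HasHull F) : ArtFun.HasHull G := by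
  obtain ⟨H⟩ := h
  refine ⟨⟨H.ring, H.family.push η, ?_, ?_⟩⟩
  · intro B A μ hμ φ y hy
    obtain ⟨y', rfl⟩ := (hη B).2 y
    have h1 : F.map μ y' = H.family.app A φ := by
      apply (hη A).1
      rw [NatTrans.naturality_apply η μ y']
      exact hy
    obtain ⟨ψ, h2, h3⟩ := H.miniversal.1 μ hμ φ y' h1
    refine ⟨ψ, h2, ?_⟩
    show η.app B (H.family.app B ψ) = _
    rw [h3]
  · exact (hη _).comp H.miniversal.2

variable {X X' : Scheme.{u}} {x : X ⟶ ArtFun.Art.specPt k} {x' : X' ⟶ ArtFun.Art.specPt k}

/-- Transport of a deformation along an isomorphism of central fibres. -/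
noncomputable def transDef (e : X ≅ X') (he : e.hom ≫ x' = x) {A : ArtFun.Art Λ k}
    (ξ : ArtFun.DefSch X' x' A) : ArtFun.DefSch X x A where
  total := ξ.total
  f := ξ.f
  flat := ξ.flat
  i := e.hom ≫ ξ.i
  isPullback := by
    have h1 : IsPullback e.hom x x' (𝟙 _) :=
      IsPullback.of_horiz_isIso ⟨by rw [he, Category.comp_id]⟩
    have h2 := h1.paste_horiz ξ.isPullback
    rwa [Category.id_comp] at h2

/-- Transport respects isomorphisms. -/
noncomputable def transIso (e : X ≅ X') (he : e.hom ≫ x' = x) {A : ArtFun.Art Λ k}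
    {ξ ξ' : ArtFun.DefSch X' x' A} (β : ξ.Iso ξ') : (transDef e he ξ).Iso (transDef e he ξ') where
  iso := β.iso
  hom_f := β.hom_f
  i_hom := by
    show (e.hom ≫ ξ.i) ≫ β.iso.hom = e.hom ≫ ξ'.i
    rw [Category.assoc, β.i_hom]

/-- Transport commutes with base change. -/
noncomputable def transBaseChange (e : X ≅ X') (he : e.hom ≫ x' = x) {A B : ArtFun.Art Λ k}
    (g : A ⟶ B) (ξ : ArtFun.DefSch X' x' A) :
    (transDef e he (ξ.baseChange g)).Iso ((transDef e he ξ).baseChange g) where
  iso := Iso.refl _
  hom_f := Category.id_comp _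
  i_hom := by
    show (e.hom ≫ (ξ.baseChange g).i) ≫ 𝟙 _ = ((transDef e he ξ).baseChange g).i
    rw [Category.comp_id]
    apply pullback.hom_ext
    · rw [Category.assoc, ArtFun.DefSch.baseChange_i_fst]
      exact (ArtFun.DefSch.baseChange_i_fst (transDef e he ξ) g).symm
    · rw [Category.assoc]
      have h1 := ArtFun.DefSch.baseChange_i_f ξ g
      have h2 := ArtFun.DefSch.baseChange_i_f (transDef e he ξ) g
      rw [h1, ← Category.assoc, he]
      exact h2.symm

/-- Transport followed by inverse transport. -/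
noncomputable def transTrans (e : X ≅ X') (he : e.hom ≫ x' = x) (he' : e.inv ≫ x = x') {A : ArtFun.Art Λ k}
    (ξ : ArtFun.DefSch X' x' A) : (transDef e.symm he' (transDef e he ξ)).Iso ξ where
  iso := Iso.refl _
  hom_f := Category.id_comp _
  i_hom := by
    show (e.inv ≫ e.hom ≫ ξ.i) ≫ 𝟙 _ = ξ.i
    rw [Category.comp_id, ← Category.assoc, e.inv_hom_id, Category.id_comp]

/-- The morphism of deformation functors induced by an isomorphism of central fibres. -/
noncomputable def transNat (e : X ≅ X') (he : e.hom ≫ x' = x) :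
    ArtFun.defFunctor (Λ := Λ) X' x' ⟶ ArtFun.defFunctor (Λ := Λ) X x where
  app A := ↾Quotient.map' (fun ξ => transDef e he ξ) (fun _ _ ⟨β⟩ => ⟨transIso e he β⟩)
  naturality A B g := ConcreteCategory.hom_ext _ _ fun q => by
    induction q using Quotient.inductionOn with
    | h ξ => exact Quotient.sound ⟨transBaseChange e he g ξ⟩

theorem transNat_bijective (e : X ≅ X') (he : e.hom ≫ x' = x) (A : ArtFun.Art Λ k) :
    Function.Bijective ((transNat (Λ := Λ) e he).app A) := by
  have he' : e.inv ≫ x = x' := by rw [← he, ← Category.assoc, e.inv_hom_id, Category.id_comp]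
  have he'' : e.symm.hom ≫ x = x' := he'
  refine Function.bijective_iff_has_inverse.mpr ⟨(transNat (Λ := Λ) e.symm he'').app A, ?_, ?_⟩
  · intro q
    induction q using Quotient.inductionOn with
    | h ξ => exact Quotient.sound ⟨transTrans e he he' ξ⟩
  · intro q
    induction q using Quotient.inductionOn with
    | h ξ =>
      have he3 : e.symm.inv ≫ x' = x := he
      exact Quotient.sound ⟨transTrans e.symm he'' he3 ξ⟩

/-- Having a hull is invariant under isomorphism of the central fibre. -/
theorem hasHull_of_iso (e : X ≅ X') (he : e.hom ≫ x' = x)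
    (h : ArtFun.HasHull (ArtFun.defFunctor (Λ := Λ) X' x')) :
    ArtFun.HasHull (ArtFun.defFunctor (Λ := Λ) X x) :=
  hasHull_of_bijective (transNat e he) (transNat_bijective e he) h

end Groth.Agent.Lib.Helper97.DefHull
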