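import Groth.Agent.Lib.Helper97.DefHull.Hull
import Groth.Agent.Lib.Helper97.DefHull.T1Finite
import Groth.Agent.Lib.Helper97.DefHull.Transport

set_option autoImplicit false

namespace Groth.Agent.Lib.Helper97.DefHull

open CategoryTheory AlgebraicGeometry
open Groth.Agent.Lib.Helper97.DefAff

universe u

section Alg

variable {k : Type u} [Field k] {X : Scheme.{u}} [IsAffine X] (x : X ⟶ Spec (CommRingCat.of k))

theorem mem_smoothLocus_of_mem [LocallyOfFiniteType x] (U : X.Opens) (hU : Smooth (U.ι ≫ x))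
    (p : X) (hp : p ∈ U) :
    letI : Algebra k Γ(X, ⊤) := (baseMap x).toAlgebra
    (isAffineOpen_top X).primeIdealOf ⟨p, trivial⟩ ∈ Algebra.smoothLocus k Γ(X, ⊤) := by
  letI a1 : Algebra k Γ(X, ⊤) := (baseMap x).toAlgebra
  have h1 : p ∈ x.smoothLocus := by
    have h2 := Scheme.Hom.preimage_smoothLocus_eq U.ι x
    rw [Scheme.Hom.smoothLocus_eq_top (U.ι ≫ x)] at h2
    have h3 : (⟨p, hp⟩ : U) ∈ U.ι ⁻¹ᵁ x.smoothLocus := by rw [h2]; trivial
    exact h3
  rw [Scheme.Hom.mem_smoothLocus] at h1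
  have h4 := (formallySmooth_stalkMap_iff (f := x) (x := p) ⊤ (isAffineOpen_top _) ⊤
    (isAffineOpen_top X) le_top trivial).mp h1
  letI a2 : Algebra Γ(Spec (CommRingCat.of k), ⊤) Γ(X, ⊤) := (x.appLE ⊤ ⊤ le_top).hom.toAlgebra
  set q := (isAffineOpen_top X).primeIdealOf ⟨p, trivial⟩ with hq
  have h5 : Algebra.FormallySmooth Γ(Spec (CommRingCat.of k), ⊤)
      (Localization.AtPrime q.asIdeal) := h4
  rw [← RingHom.formallySmooth_algebraMap] at h5
  let e : k ≃+* Γ(Spec (CommRingCat.of k), ⊤) :=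
    (Scheme.ΓSpecIso (CommRingCat.of k)).symm.commRingCatIsoToRingEquiv
  have h6 := RingHom.FormallySmooth.respectsIso.2 _ e h5
  show Algebra.FormallySmooth k (Localization.AtPrime q.asIdeal)
  rw [← RingHom.formallySmooth_algebraMap]
  convert h6 using 1
  ext r
  rw [IsScalarTower.algebraMap_apply k Γ(X, ⊤) (Localization.AtPrime q.asIdeal)]
  rw [RingHom.comp_apply,
    IsScalarTower.algebraMap_apply Γ(Spec (CommRingCat.of k), ⊤) Γ(X, ⊤)
      (Localization.AtPrime q.asIdeal)]
  congr 1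
  show x.appTop.hom ((Scheme.ΓSpecIso (CommRingCat.of k)).inv.hom r) =
    (x.appLE ⊤ ⊤ le_top).hom ((Scheme.ΓSpecIso (CommRingCat.of k)).inv.hom r)
  have h7 : x.appTop = x.appLE ⊤ ⊤ le_top := Scheme.Hom.app_eq_appLE x
  rw [h7]

theorem finiteType_baseMap [LocallyOfFiniteType x] : (baseMap x).FiniteType := by
  have h1 : x.appTop.hom.FiniteType :=
    HasRingHomProperty.appTop (P := @LocallyOfFiniteType) x inferInstance
  have h2 : ((Scheme.ΓSpecIso (CommRingCat.of k)).inv.hom).FiniteType := by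
    apply RingHom.FiniteType.of_surjective
    exact ((ConcreteCategory.isIso_iff_bijective _).mp inferInstance).2
  exact h1.comp h2

end Alg

/-- The deformation functor of an affine scheme of finite type over a field which is smooth
outside finitely many points has a hull. -/
theorem hasHull_defFunctor_affine (Λ k : Type u) [CommRing Λ] [IsNoetherianRing Λ] [Field k]
    [Algebra Λ k] (hk : Function.Surjective (algebraMap Λ k))
    (X : Scheme.{u}) [IsAffine X] (x : X ⟶ Spec (CommRingCat.of k)) [LocallyOfFiniteType x]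
    (U : X.Opens) (hU : Smooth (U.ι ≫ x)) (hfin : ((U : Set X)ᶜ).Finite) :
    ArtFun.HasHull (ArtFun.defFunctor (Λ := Λ) X x) := by
  letI a1 : Algebra k Γ(X, ⊤) := (baseMap x).toAlgebra
  haveI : Algebra.FiniteType k Γ(X, ⊤) := finiteType_baseMap x
  let Z : Set (PrimeSpectrum Γ(X, ⊤)) :=
    (fun p => (isAffineOpen_top X).primeIdealOf ⟨p, trivial⟩) '' (U : Set X)ᶜ
  have hZ : Z.Finite := hfin.image _
  have hsm : ∀ q ∉ Z, q ∈ Algebra.smoothLocus k Γ(X, ⊤) := by
    intro q hq
    let p : X := (isAffineOpen_top X).fromSpec q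
    have hpq : (isAffineOpen_top X).primeIdealOf ⟨p, trivial⟩ = q := by
      apply (isAffineOpen_top X).fromSpec.isOpenEmbedding.injective
      exact (isAffineOpen_top X).fromSpec_primeIdealOf ⟨p, trivial⟩
    have hp : p ∈ U := by
      by_contra hp
      exact hq ⟨p, hp, hpq⟩
    rw [← hpq]
    exact mem_smoothLocus_of_mem x U hU p hp
  haveI := finite_T1_of_finite_nonsmooth Z hZ hsm
  have h := hasHull_defF Λ k Γ(X, ⊤) hk
  refine hasHull_of_iso (X.isoSpec) ?_ h
  have h1 := eq_toSpecΓ_comp x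
  rw [Scheme.isoSpec_hom]
  exact h1.symm

end Groth.Agent.Lib.Helper97.DefHull
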