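import Groth.Agent.Lib.Helper97.DefHull.Glue

/-!
# The conditions `S1` and `Heps` for the deformation functor of an affine scheme
-/

set_option autoImplicit false

namespace Groth.Agent.Lib.Helper97.DefHull

open CategoryTheory AlgebraicGeometry
open Groth.Agent.Lib.Helper97.DefLCI

universe u

variable {Λ k : Type u} [CommRing Λ] [Field k] [Algebra Λ k]
variable {B₀ : Type u} [CommRing B₀] [Algebra k B₀]

lemma exists_cl_eq {A : ArtFun.Art Λ k} (y : (DefF Λ k B₀).obj A) :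
    ∃ d : AlgDataL A B₀, y = (ofAlgL d).cl := by
  induction y using Quotient.inductionOn with
  | h ξ =>
    obtain ⟨d, ⟨e⟩⟩ := exists_algData_isoL ξ
    exact ⟨d, (Quotient.sound ⟨e⟩ : (ofAlgL d).cl = ξ.cl).symm⟩

lemma map_cl_eq_of_hom {A₁ A₂ : ArtFun.Art Λ k} (p : A₁ ⟶ A₂)
    (d₁ : AlgDataL A₁ B₀) (d₂ : AlgDataL A₂ B₀) (q : d₁.R →+* d₂.R)
    (hqa : ∀ c, q (d₁.a c) = d₂.a (p.toAlgHom c)) (hqπ : ∀ x, d₂.π (q x) = d₁.π x) :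
    (DefF Λ k B₀).map p (ofAlgL d₁).cl = (ofAlgL d₂).cl :=
  Quotient.sound (nonempty_baseChange_iso_of_hom p d₁ d₂ q hqa hqπ)

lemma exists_hom_of_map_cl_eq {A₁ A₂ : ArtFun.Art Λ k} (p : A₁ ⟶ A₂)
    (d₁ : AlgDataL A₁ B₀) (d₂ : AlgDataL A₂ B₀)
    (h : (DefF Λ k B₀).map p (ofAlgL d₁).cl = (ofAlgL d₂).cl) :
    ∃ q : d₁.R →+* d₂.R, (∀ c, q (d₁.a c) = d₂.a (p.toAlgHom c)) ∧
      (∀ x, d₂.π (q x) = d₁.π x) := by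
  obtain ⟨β⟩ := Quotient.exact h
  exact exists_hom_of_baseChange_iso p d₁ d₂ β

lemma cl_eq_of_hom {A : ArtFun.Art Λ k} (d d' : AlgDataL A B₀) (q : d.R →+* d'.R)
    (hqa : ∀ c, q (d.a c) = d'.a c) (hqπ : ∀ x, d'.π (q x) = d.π x) :
    (ofAlgL d).cl = (ofAlgL d').cl :=
  Quotient.sound (nonempty_iso_of_hom d d' q hqa hqπ)

/-- Lifting a pair of ring maps to a fibre product of rings. -/
lemma exists_lift_fib {S G R₁ R₂ : Type*} [CommRing S] [CommRing G] [CommRing R₁] [CommRing R₂]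
    (s₁ : G →+* R₁) (s₂ : G →+* R₂)
    (hjinj : ∀ g g', s₁ g = s₁ g' → s₂ g = s₂ g' → g = g')
    (t₁ : S →+* R₁) (t₂ : S →+* R₂) (hex : ∀ r, ∃ g, s₁ g = t₁ r ∧ s₂ g = t₂ r) :
    ∃ τ : S →+* G, (∀ r, s₁ (τ r) = t₁ r) ∧ (∀ r, s₂ (τ r) = t₂ r) := by
  choose τ hτ₁ hτ₂ using hex
  refine ⟨{ toFun := τ, map_one' := ?_, map_mul' := ?_, map_zero' := ?_, map_add' := ?_ },
    hτ₁, hτ₂⟩
  · apply hjinj
    · rw [hτ₁, map_one, map_one]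
    · rw [hτ₂, map_one, map_one]
  · intro x y
    apply hjinj
    · rw [hτ₁, map_mul, map_mul, hτ₁, hτ₁]
    · rw [hτ₂, map_mul, map_mul, hτ₂, hτ₂]
  · apply hjinj
    · rw [hτ₁, map_zero, map_zero]
    · rw [hτ₂, map_zero, map_zero]
  · intro x y
    apply hjinj
    · rw [hτ₁, map_add, map_add, hτ₁, hτ₁]
    · rw [hτ₂, map_add, map_add, hτ₂, hτ₂]

theorem s1_defF : ArtFun.S1 (DefF Λ k B₀) := by
  intro B A A' A'' p' p'' f' f'' h hf'' y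
  obtain ⟨d₁, hd₁⟩ := exists_cl_eq y.1.1
  obtain ⟨d₂, hd₂⟩ := exists_cl_eq y.1.2
  obtain ⟨d, hd⟩ := exists_cl_eq ((DefF Λ k B₀).map f'' y.1.2)
  have h1 : (DefF Λ k B₀).map f' (ofAlgL d₁).cl = (ofAlgL d).cl := by
    rw [← hd₁, ← hd]
    exact y.2
  have h2 : (DefF Λ k B₀).map f'' (ofAlgL d₂).cl = (ofAlgL d).cl := by
    rw [← hd₂, ← hd]
  obtain ⟨q₁, hq₁a, hq₁π⟩ := exists_hom_of_map_cl_eq f' d₁ d h1
  obtain ⟨q₂, hq₂a, hq₂π⟩ := exists_hom_of_map_cl_eq f'' d₂ d h2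
  obtain ⟨D, s₁, s₂, hs₁a, hs₁π, hs₂a, hs₂π, -, -, -⟩ :=
    exists_glue h hf'' d₁ d₂ d q₁ q₂ hq₁a hq₁π hq₂a hq₂π
  refine ⟨(ofAlgL D).cl, ?_⟩
  apply Subtype.ext
  apply Prod.ext
  · show (DefF Λ k B₀).map p' (ofAlgL D).cl = y.1.1
    rw [hd₁]
    exact map_cl_eq_of_hom p' D d₁ s₁ hs₁a hs₁π
  · show (DefF Λ k B₀).map p'' (ofAlgL D).cl = y.1.2
    rw [hd₂]
    exact map_cl_eq_of_hom p'' D d₂ s₂ hs₂a hs₂π

/-- Uniqueness in Milnor patching: ring data over the fibre product mapping compatibly to both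
pieces is isomorphic to the glued one. -/
theorem cl_eq_of_glue {B A' A'' : ArtFun.Art Λ k} {p' : B ⟶ A'} {p'' : B ⟶ A''}
    (d₁ : AlgDataL A' B₀) (d₂ : AlgDataL A'' B₀)
    (D : AlgDataL B B₀) (s₁ : D.R →+* d₁.R) (s₂ : D.R →+* d₂.R)
    (hs₁a : ∀ b, s₁ (D.a b) = d₁.a (p'.toAlgHom b)) (hs₁π : ∀ g, d₁.π (s₁ g) = D.π g)
    (hs₂a : ∀ b, s₂ (D.a b) = d₂.a (p''.toAlgHom b))
    (hfib : ∀ r₁ r₂, d₁.π r₁ = d₂.π r₂ → ∃ g, s₁ g = r₁ ∧ s₂ g = r₂)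
    (hjinj : ∀ g g', s₁ g = s₁ g' → s₂ g = s₂ g' → g = g')
    (D' : AlgDataL B B₀) (t₁ : D'.R →+* d₁.R) (t₂ : D'.R →+* d₂.R)
    (ht₁a : ∀ b, t₁ (D'.a b) = d₁.a (p'.toAlgHom b)) (ht₁π : ∀ g, d₁.π (t₁ g) = D'.π g)
    (ht₂a : ∀ b, t₂ (D'.a b) = d₂.a (p''.toAlgHom b)) (ht₂π : ∀ g, d₂.π (t₂ g) = D'.π g) :
    (ofAlgL D').cl = (ofAlgL D).cl := by
  obtain ⟨τ, hτ₁, hτ₂⟩ := exists_lift_fib s₁ s₂ hjinj t₁ t₂
    (fun r => hfib (t₁ r) (t₂ r) ((ht₁π r).trans (ht₂π r).symm))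
  refine cl_eq_of_hom D' D τ ?_ ?_
  · intro b
    apply hjinj
    · rw [hτ₁, ht₁a, hs₁a]
    · rw [hτ₂, ht₂a, hs₂a]
  · intro r
    rw [← hs₁π, hτ₁, ht₁π]

theorem heps_defF : ArtFun.Heps (DefF Λ k B₀) := by
  intro B A' p' p'' h
  refine ⟨?_, ?_⟩
  · -- injective
    intro z z' hzz
    have hz1 : (DefF Λ k B₀).map p' z = (DefF Λ k B₀).map p' z' :=
      congrArg (fun t => t.1.1) hzz
    have hz2 : (DefF Λ k B₀).map p'' z = (DefF Λ k B₀).map p'' z' :=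
      congrArg (fun t => t.1.2) hzz
    obtain ⟨D₁, rfl⟩ := exists_cl_eq z
    obtain ⟨D₂, rfl⟩ := exists_cl_eq z'
    obtain ⟨d₁, hd₁⟩ := exists_cl_eq ((DefF Λ k B₀).map p' (ofAlgL D₁).cl)
    obtain ⟨d₂, hd₂⟩ := exists_cl_eq ((DefF Λ k B₀).map p'' (ofAlgL D₁).cl)
    obtain ⟨t₁, ht₁a, ht₁π⟩ := exists_hom_of_map_cl_eq p' D₁ d₁ hd₁
    obtain ⟨t₂, ht₂a, ht₂π⟩ := exists_hom_of_map_cl_eq p'' D₁ d₂ hd₂
    obtain ⟨t₁', ht₁'a, ht₁'π⟩ := exists_hom_of_map_cl_eq p' D₂ d₁ (hz1.symm.trans hd₁)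
    obtain ⟨t₂', ht₂'a, ht₂'π⟩ := exists_hom_of_map_cl_eq p'' D₂ d₂ (hz2.symm.trans hd₂)
    have hf'' : Function.Surjective (ArtFun.Art.toBase (ArtFun.Art.dual Λ k)) :=
      (ArtFun.Art.dual Λ k).res_surjective
    obtain ⟨D, s₁, s₂, hs₁a, hs₁π, hs₂a, hs₂π, -, hfib, hjinj⟩ :=
      exists_glue h hf'' d₁ d₂ (baseData (Λ := Λ) (k := k) (B₀ := B₀)) d₁.π d₂.π
        (fun c => d₁.π_a c) (fun x => rfl) (fun c => d₂.π_a c) (fun x => rfl)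
    have e1 := cl_eq_of_glue d₁ d₂ D s₁ s₂ hs₁a hs₁π hs₂a hfib hjinj D₁ t₁ t₂ ht₁a ht₁π ht₂a ht₂π
    have e2 := cl_eq_of_glue d₁ d₂ D s₁ s₂ hs₁a hs₁π hs₂a hfib hjinj D₂ t₁' t₂' ht₁'a ht₁'π
      ht₂'a ht₂'π
    exact e1.trans e2.symm
  · exact s1_defF p' p'' _ _ h (ArtFun.Art.dual Λ k).res_surjective

end Groth.Agent.Lib.Helper97.DefHull
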