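import Groth.Agent.Lib.Helper97.DefHull.Schl
import Groth.Agent.Lib.Helper97.DefDual.OfExt

/-!
# First-order deformations of an affine scheme and extensions (ring data over `k[ε]`)
-/

set_option autoImplicit false

namespace Groth.Agent.Lib.Helper97.DefHull

open CategoryTheory AlgebraicGeometry DualNumber
open Groth.Agent.Lib.Helper97.DefLCI Groth.Agent.Lib.Helper97.DefDual
open Groth.Agent.Lib.Helper97.DefAff

universe u

variable {Λ k : Type u} [CommRing Λ] [Field k] [Algebra Λ k]
variable {B₀ : Type u} [CommRing B₀] [Algebra k B₀]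

/-- The ring data over `k[ε]` attached to an extension of `B₀` by `B₀`. -/
noncomputable def extData (E : Exal.Ext k B₀ B₀) : AlgDataL (ArtFun.Art.dual Λ k) B₀ where
  R := E.E
  a := (dmap E).toRingHom
  π := E.proj.toRingHom
  flat := flat_dmap E
  π_surj := E.isExtension.proj_surjective
  ker_π := by
    apply le_antisymm
    · intro x hx
      obtain ⟨s, rfl⟩ := exists_mul_epsE_of_proj_eq_zero E x hx
      apply Ideal.mul_mem_left
      rw [← dmap_eps]
      apply Ideal.mem_map_of_mem
      rw [RingHom.mem_ker]
      exact DualNumber.fst_eps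
    · rw [Ideal.map_le_iff_le_comap]
      intro w hw
      rw [Ideal.mem_comap, RingHom.mem_ker]
      have h1 : TrivSqZeroExt.fst w = 0 := hw
      show E.proj (dmap E w) = 0
      rw [proj_dmap, h1, map_zero]
  π_a := fun w => proj_dmap E w

section ToExt

variable (d : AlgDataL (ArtFun.Art.dual Λ k) B₀)

/-- Every ring datum over `k[ε]` comes from an extension. -/
theorem exists_ext_cl_eq : ∃ E : Exal.Ext k B₀ B₀,
    (ofAlgL (extData (Λ := Λ) E)).cl = (ofAlgL d).cl := by
  let bm : DualNumber k →+* d.R := d.a
  letI algA : Algebra (DualNumber k) d.R := bm.toAlgebra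
  letI algk : Algebra k d.R := (bm.comp (algebraMap k (DualNumber k))).toAlgebra
  have hflat : Module.Flat (DualNumber k) d.R := d.flat
  let π : d.R →ₐ[k] B₀ :=
    { d.π with
      commutes' := fun c => by
        show d.π (d.a (algebraMap k (DualNumber k) c)) = algebraMap k B₀ c
        rw [d.π_a]
        rfl }
  have hπdef : ∀ y, π y = d.π y := fun y => rfl
  have hπ : Function.Surjective π := d.π_surj
  let εR : d.R := bm (ε : DualNumber k)
  have hεsq : εR * εR = 0 := by
    show bm (ε : DualNumber k) * bm (ε : DualNumber k) = 0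
    rw [← map_mul]
    have : (ε : DualNumber k) * ε = 0 := DualNumber.eps_mul_eps
    exact (congrArg bm this).trans (map_zero _)
  have hkerε : ∀ y, π y = 0 → ∃ r, y = εR * r := by
    intro y hy
    have hy' : y ∈ (RingHom.ker (ArtFun.Art.dual Λ k).res.toRingHom).map d.a := by
      rw [← d.ker_π]
      exact hy
    have hle : (RingHom.ker (ArtFun.Art.dual Λ k).res.toRingHom).map d.a ≤ Ideal.span {εR} := by
      rw [Ideal.map_le_iff_le_comap]
      have key : ∀ x : DualNumber k, TrivSqZeroExt.fst x = 0 → bm x ∈ Ideal.span {εR} := by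
        intro x hx0
        rw [eq_eps_mul_of_fst_eq_zero x hx0, map_mul]
        exact Ideal.mul_mem_right _ _ (Ideal.subset_span rfl)
      intro x hx
      exact key x hx
    obtain ⟨r, hr⟩ := Ideal.mem_span_singleton'.mp (hle hy')
    exact ⟨r, by rw [← hr, mul_comm]⟩
  have hπε : π εR = 0 := by
    have : εR ∈ (RingHom.ker (ArtFun.Art.dual Λ k).res.toRingHom).map d.a := by
      apply Ideal.mem_map_of_mem
      rw [RingHom.mem_ker]
      exact DualNumber.fst_eps
    rw [← d.ker_π] at this
    exact this
  have hεker : ∀ y, π y = 0 → εR * y = 0 := by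
    intro y hy
    obtain ⟨r, rfl⟩ := hkerε y hy
    rw [← mul_assoc, hεsq, zero_mul]
  have hεflat : ∀ y, εR * y = 0 → π y = 0 := by
    intro y hy
    obtain ⟨r, rfl⟩ := exists_eps_smul_of_flat (k := k) (M := d.R) y hy
    show π (εR * r) = 0
    rw [map_mul, hπε, zero_mul]
  let s : B₀ → d.R := Function.surjInv hπ
  have hs : ∀ z, π (s z) = z := Function.surjInv_eq hπ
  have hεs : ∀ y, εR * s (π y) = εR * y := by
    intro y
    have : π (s (π y) - y) = 0 := by rw [map_sub, hs, sub_self]
    have := hεker _ this
    rw [mul_sub, sub_eq_zero] at this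
    exact this
  let incl : B₀ →+ d.R := AddMonoidHom.mk' (fun z => εR * s z) (by
    intro a b
    have h1 : π (s (a + b) - (s a + s b)) = 0 := by
      rw [map_sub, map_add, hs, hs, hs, sub_self]
    have h2 := hεker _ h1
    rw [mul_sub, sub_eq_zero, mul_add] at h2
    exact h2)
  have hincl : ∀ y, incl (π y) = εR * y := hεs
  have hext : Exal.IsExtension π incl :=
    { proj_surjective := hπ
      incl_injective := by
        rw [injective_iff_map_eq_zero]
        intro z hz
        obtain ⟨y, rfl⟩ := hπ z
        rw [hincl] at hz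
        exact hεflat y hz
      exact := by
        intro x
        constructor
        · intro hx
          obtain ⟨r, rfl⟩ := hkerε x hx
          exact ⟨π r, hincl r⟩
        · rintro ⟨z, rfl⟩
          obtain ⟨y, rfl⟩ := hπ z
          rw [hincl, map_mul, hπε, zero_mul]
      mul_incl := by
        intro x z
        obtain ⟨y, rfl⟩ := hπ z
        rw [smul_eq_mul, ← map_mul, hincl, hincl]
        ring }
  let E : Exal.Ext k B₀ B₀ :=
    { E := d.R
      commRing := inferInstance
      algebra := algk
      proj := π
      incl := incl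
      isExtension := hext }
  have hepsE : epsE E = εR := by
    show incl 1 = εR
    rw [← map_one π, hincl, mul_one]
  let bmAlg : DualNumber k →ₐ[k] E.E :=
    { bm with
      commutes' := fun c => rfl }
  have hdmap : dmap E = bmAlg := by
    apply DualNumber.algHom_ext
    rw [dmap_eps, hepsE]
    rfl
  refine ⟨E, ?_⟩
  refine cl_eq_of_hom (extData (Λ := Λ) E) d (RingHom.id d.R) ?_ ?_
  · intro c
    show dmap E c = d.a c
    rw [hdmap]
    rfl
  · intro x
    rfl

end ToExt

/-- Equivalent extensions give isomorphic ring data. -/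
theorem cl_extData_eq_of_equiv {E E' : Exal.Ext k B₀ B₀} (θ : Exal.Ext.Equiv E E') :
    (ofAlgL (extData (Λ := Λ) E)).cl = (ofAlgL (extData (Λ := Λ) E')).cl := by
  refine cl_eq_of_hom (extData (Λ := Λ) E) (extData (Λ := Λ) E')
    (θ.toAlgEquiv : E.E →ₐ[k] E'.E).toRingHom ?_ ?_
  · intro c
    show θ.toAlgEquiv (dmap E c) = dmap E' c
    rw [dmap_apply, dmap_apply, map_add, map_mul, AlgEquiv.commutes, AlgEquiv.commutes]
    congr 2
    exact θ.apply_incl 1
  · intro x
    exact θ.proj_apply x

/-- Isomorphic ring data come from equivalent extensions. -/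
theorem nonempty_equiv_of_cl_extData_eq {E E' : Exal.Ext k B₀ B₀}
    (h : (ofAlgL (extData (Λ := Λ) E)).cl = (ofAlgL (extData (Λ := Λ) E')).cl) :
    Nonempty (Exal.Ext.Equiv E E') := by
  obtain ⟨β⟩ := Quotient.exact h
  obtain ⟨q₀, hqa, hqπ⟩ := exists_hom_of_iso (extData (Λ := Λ) E) (extData (Λ := Λ) E') β
  let q : E.E →+* E'.E := q₀
  have hqa' : ∀ c : DualNumber k, q (dmap E c) = dmap E' c := hqa
  have hqπ' : ∀ x : E.E, E'.proj (q x) = E.proj x := hqπ
  have hqeps : q (epsE E) = epsE E' := by
    rw [← dmap_eps, hqa', dmap_eps]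
  have hqincl : ∀ z : B₀, q (E.incl z) = E'.incl z := by
    intro z
    obtain ⟨s, rfl⟩ := E.isExtension.proj_surjective z
    rw [incl_eq_mul_epsE, map_mul, hqeps, mul_epsE, hqπ']
  have hbij : Function.Bijective q := by
    refine ⟨?_, ?_⟩
    · rw [injective_iff_map_eq_zero]
      intro x hx
      have h1 : E.proj x = 0 := by rw [← hqπ', hx, map_zero]
      obtain ⟨z, rfl⟩ := (E.isExtension.exact x).mp h1
      rw [hqincl] at hx
      have : z = 0 := E'.isExtension.incl_injective (hx.trans (map_zero _).symm)
      rw [this, map_zero]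
    · intro y
      obtain ⟨x, hx⟩ := E.isExtension.proj_surjective (E'.proj y)
      have h1 : E'.proj (y - q x) = 0 := by rw [map_sub, hqπ', hx, sub_self]
      obtain ⟨z, hz⟩ := (E'.isExtension.exact _).mp h1
      refine ⟨x + E.incl z, ?_⟩
      rw [map_add, hqincl, hz]
      ring
  let qa : E.E →ₐ[k] E'.E :=
    { q with
      commutes' := fun c => by
        have h1 : algebraMap k E.E c = dmap E (algebraMap k (DualNumber k) c) :=
          ((dmap E).commutes c).symm
        have h2 : algebraMap k E'.E c = dmap E' (algebraMap k (DualNumber k) c) :=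
          ((dmap E').commutes c).symm
        show q (algebraMap k E.E c) = algebraMap k E'.E c
        rw [h1, h2, hqa'] }
  exact ⟨{ toAlgEquiv := AlgEquiv.ofBijective qa hbij
           proj_apply := hqπ'
           apply_incl := hqincl }⟩

end Groth.Agent.Lib.Helper97.DefHull
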