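import Groth.Agent.Lib.Helper97.DefHull.Tangent1
import Groth.Agent.Lib.Helper76.ExalT1

/-!
# Functoriality of the extension attached to a linear map on the conormal module, and the
action of `ε ↦ cε` and of `(ε₁, ε₂) ↦ (ε, ε)` on first-order deformations
-/

set_option autoImplicit false

namespace Groth.Agent.Lib.Helper97.DefHull

open CategoryTheory AlgebraicGeometry DualNumber
open Groth.Agent.Lib.Helper97.DefLCI Groth.Agent.Lib.Helper97.DefDual
open Groth.Agent.Lib.Helper76.ExalT1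

universe u

section PF

open Exal

attribute [local instance] Exal.opModule Exal.isCentralScalar_opModule

variable {A B : Type u} [CommRing A] [CommRing B] [Algebra A B]
variable (P : Algebra.Extension.{u} A B) {M M' : Type u} [AddCommGroup M] [Module B M]
  [AddCommGroup M'] [Module B M']

/-- A `B`-linear map regarded over the ring of the extension. -/
def uR (u : M →ₗ[B] M') : MR P M →ₗ[P.Ring] MR P M' where
  toFun := fun m => toMR P M' (u ((toMR P M).symm m))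
  map_add' := fun x y => by
    show toMR P M' (u ((toMR P M).symm (x + y))) = _
    rw [map_add, map_add, map_add]
  map_smul' := fun r m => by
    show toMR P M' (u ((toMR P M).symm (r • m))) = r • toMR P M' (u ((toMR P M).symm m))
    rw [smul_MR, map_smul, map_smul, map_smul, smul_MR]

lemma uR_apply (u : M →ₗ[B] M') (m : MR P M) :
    uR P u m = toMR P M' (u ((toMR P M).symm m)) := rfl

lemma uR_res (u : M →ₗ[B] M') (φ : P.Cotangent →ₗ[B] M) (x : P.ker) :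
    uR P u (res P φ x) = res P (u ∘ₗ φ) x := by
  rw [uR_apply, res_apply, res_apply, LinearEquiv.symm_apply_apply]
  rfl

/-- Functoriality of the extension attached to a linear map in the module. -/
theorem exists_EextMap (u : M →ₗ[B] M') (φ : P.Cotangent →ₗ[B] M)
    (φ' : P.Cotangent →ₗ[B] M') (hφ' : φ' = u ∘ₗ φ) :
    ∃ F : (Eext P (res P φ)).E →+* (Eext P (res P φ')).E,
      (∀ c : A, F (algebraMap A _ c) = algebraMap A _ c) ∧
      (∀ x, (Eext P (res P φ')).proj (F x) = (Eext P (res P φ)).proj x) ∧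
      (∀ m, F ((Eext P (res P φ)).incl m) = (Eext P (res P φ')).incl (u m)) := by
  subst hφ'
  let tmap : TT P M →ₐ[P.Ring] TT P M' := TrivSqZeroExt.map (uR P u)
  have hK : ∀ z ∈ KK P (res P φ), (Ideal.Quotient.mk (KK P (res P (u ∘ₗ φ)))) (tmap z) = 0 := by
    rintro z ⟨x, hx1, hx2⟩
    rw [Ideal.Quotient.eq_zero_iff_mem]
    refine ⟨x, ?_, ?_⟩
    · rw [TrivSqZeroExt.fst_map, hx1]
    · rw [TrivSqZeroExt.snd_map, hx2, map_neg, uR_res]
  let F : EE P (res P φ) →+* EE P (res P (u ∘ₗ φ)) :=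
    Ideal.Quotient.lift (KK P (res P φ))
      ((Ideal.Quotient.mk (KK P (res P (u ∘ₗ φ)))).comp tmap.toRingHom) hK
  have hF : ∀ z : TT P M, F (Ideal.Quotient.mk _ z) = Ideal.Quotient.mk _ (tmap z) := fun z => rfl
  refine ⟨F, ?_, ?_, ?_⟩
  · intro c
    have h1 : algebraMap A (Eext P (res P φ)).E c =
        Ideal.Quotient.mk (KK P (res P φ)) (algebraMap A (TT P M) c) := rfl
    have h2 : algebraMap A (Eext P (res P (u ∘ₗ φ))).E c =
        Ideal.Quotient.mk (KK P (res P (u ∘ₗ φ))) (algebraMap A (TT P M') c) := rfl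
    rw [h1, h2]
    show F (Ideal.Quotient.mk _ _) = _
    rw [hF]
    congr 1
    have h3 : algebraMap A (TT P M) c = TrivSqZeroExt.inl (algebraMap A P.Ring c) := rfl
    have h4 : algebraMap A (TT P M') c = TrivSqZeroExt.inl (algebraMap A P.Ring c) := rfl
    rw [h3, h4]
    exact TrivSqZeroExt.map_inl _ _
  · intro x
    obtain ⟨z, rfl⟩ := Ideal.Quotient.mk_surjective x
    show (Eext P (res P (u ∘ₗ φ))).proj (F (Ideal.Quotient.mk _ z)) = _
    rw [hF, Eext_proj_mk, Eext_proj_mk, TrivSqZeroExt.fst_map]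
  · intro m
    rw [Eext_incl, Eext_incl]
    show F (Ideal.Quotient.mk _ _) = _
    rw [hF]
    congr 1
    rw [TrivSqZeroExt.map_inr, uR_apply, LinearEquiv.symm_apply_apply]

end PF

variable {Λ k : Type u} [CommRing Λ] [Field k] [Algebra Λ k]
variable {B₀ : Type u} [CommRing B₀] [Algebra k B₀]

lemma dmap_eq (E : Exal.Ext k B₀ B₀) (w : DualNumber k) :
    dmap E w = algebraMap k E.E (TrivSqZeroExt.fst w) +
      E.incl (algebraMap k B₀ (TrivSqZeroExt.snd w)) := by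
  rw [dmap_apply]
  congr 1
  rw [epsE, E.isExtension.mul_incl, AlgHom.commutes, smul_eq_mul, mul_one]

/-- The action of `ε ↦ cε` on first-order deformations. -/
theorem map_scale_cl_extData (c : k) (E₁ E₂ : Exal.Ext k B₀ B₀) (F : E₁.E →+* E₂.E)
    (hFa : ∀ a : k, F (algebraMap k _ a) = algebraMap k _ a)
    (hFp : ∀ x, E₂.proj (F x) = E₁.proj x)
    (hFi : ∀ m, F (E₁.incl m) = E₂.incl (c • m)) :
    (DefF Λ k B₀).map (ArtFun.Art.scale c) (ofAlgL (extData (Λ := Λ) E₁)).cl =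
      (ofAlgL (extData (Λ := Λ) E₂)).cl := by
  refine map_cl_eq_of_hom (ArtFun.Art.scale c) (extData (Λ := Λ) E₁) (extData (Λ := Λ) E₂) F ?_
    hFp
  intro w
  show F (dmap E₁ w) = dmap E₂ ((ArtFun.Art.scale (Λ := Λ) c).toAlgHom w)
  rw [dmap_eq, dmap_eq, map_add, hFa, hFi]
  have h1 : TrivSqZeroExt.fst ((ArtFun.Art.scale (Λ := Λ) c).toAlgHom w) = TrivSqZeroExt.fst w := rfl
  have h2 : TrivSqZeroExt.snd ((ArtFun.Art.scale (Λ := Λ) c).toAlgHom w) =
      c • TrivSqZeroExt.snd w := rfl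
  rw [h1, h2]
  congr 2
  rw [Algebra.smul_def, smul_eq_mul, map_mul]

/-- The action of `(ε₁, ε₂) ↦ (ε, ε)` on deformations over `k[ε₁, ε₂]` whose two projections are
given by extensions. -/
theorem map_plus_cl_of_pr (E₁ E₂ Ep : Exal.Ext k B₀ B₀) (E₁₂ : Exal.Ext k B₀ (B₀ × B₀))
    (F₁ : E₁₂.E →+* E₁.E) (F₂ : E₁₂.E →+* E₂.E) (Fp : E₁₂.E →+* Ep.E)
    (hF₁a : ∀ a : k, F₁ (algebraMap k _ a) = algebraMap k _ a)
    (hF₁p : ∀ x, E₁.proj (F₁ x) = E₁₂.proj x)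
    (hF₁i : ∀ m, F₁ (E₁₂.incl m) = E₁.incl m.1)
    (hF₂a : ∀ a : k, F₂ (algebraMap k _ a) = algebraMap k _ a)
    (hF₂p : ∀ x, E₂.proj (F₂ x) = E₁₂.proj x)
    (hF₂i : ∀ m, F₂ (E₁₂.incl m) = E₂.incl m.2)
    (hFpa : ∀ a : k, Fp (algebraMap k _ a) = algebraMap k _ a)
    (hFpp : ∀ x, Ep.proj (Fp x) = E₁₂.proj x)
    (hFpi : ∀ m, Fp (E₁₂.incl m) = Ep.incl (m.1 + m.2))
    (z : (DefF Λ k B₀).obj (ArtFun.Art.dual2 Λ k))
    (h1 : (DefF Λ k B₀).map ArtFun.Art.pr₁ z = (ofAlgL (extData (Λ := Λ) E₁)).cl)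
    (h2 : (DefF Λ k B₀).map ArtFun.Art.pr₂ z = (ofAlgL (extData (Λ := Λ) E₂)).cl) :
    (DefF Λ k B₀).map ArtFun.Art.plus z = (ofAlgL (extData (Λ := Λ) Ep)).cl := by
  obtain ⟨D', rfl⟩ := exists_cl_eq z
  obtain ⟨t₁', ht₁a', ht₁π'⟩ := exists_hom_of_map_cl_eq ArtFun.Art.pr₁ D' (extData (Λ := Λ) E₁) h1
  obtain ⟨t₂', ht₂a', ht₂π'⟩ := exists_hom_of_map_cl_eq ArtFun.Art.pr₂ D' (extData (Λ := Λ) E₂) h2
  let t₁ : D'.R →+* E₁.E := t₁'
  let t₂ : D'.R →+* E₂.E := t₂'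
  have ht₁a : ∀ w : TrivSqZeroExt k (k × k),
      t₁ (D'.a w) = dmap E₁ ((ArtFun.Art.pr₁ (Λ := Λ) (k := k)).toAlgHom w) := ht₁a'
  have ht₂a : ∀ w : TrivSqZeroExt k (k × k),
      t₂ (D'.a w) = dmap E₂ ((ArtFun.Art.pr₂ (Λ := Λ) (k := k)).toAlgHom w) := ht₂a'
  have ht₁π : ∀ r, E₁.proj (t₁ r) = D'.π r := ht₁π'
  have ht₂π : ∀ r, E₂.proj (t₂ r) = D'.π r := ht₂π'
  -- joint injectivity
  have hjinj : ∀ g g' : E₁₂.E, F₁ g = F₁ g' → F₂ g = F₂ g' → g = g' := by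
    intro g g' hg1 hg2
    have h0 : E₁₂.proj (g - g') = 0 := by
      rw [← hF₁p, map_sub, hg1, sub_self, map_zero]
    obtain ⟨m, hm⟩ := (E₁₂.isExtension.exact _).mp h0
    have hm1 : E₁.incl m.1 = 0 := by
      rw [← hF₁i, hm, map_sub, hg1, sub_self]
    have hm2 : E₂.incl m.2 = 0 := by
      rw [← hF₂i, hm, map_sub, hg2, sub_self]
    have e1 : m.1 = 0 := E₁.isExtension.incl_injective (hm1.trans (map_zero _).symm)
    have e2 : m.2 = 0 := E₂.isExtension.incl_injective (hm2.trans (map_zero _).symm)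
    have hm0 : m = 0 := Prod.ext e1 e2
    rw [hm0, map_zero] at hm
    exact (sub_eq_zero.mp hm.symm)
  have hfib : ∀ r, ∃ g, F₁ g = t₁ r ∧ F₂ g = t₂ r := by
    intro r
    obtain ⟨y₀, hy₀⟩ := E₁₂.isExtension.proj_surjective (D'.π r)
    have h01 : E₁.proj (t₁ r - F₁ y₀) = 0 := by
      rw [map_sub, ht₁π, hF₁p, hy₀, sub_self]
    have h02 : E₂.proj (t₂ r - F₂ y₀) = 0 := by
      rw [map_sub, ht₂π, hF₂p, hy₀, sub_self]
    obtain ⟨m₁, hm₁⟩ := (E₁.isExtension.exact _).mp h01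
    obtain ⟨m₂, hm₂⟩ := (E₂.isExtension.exact _).mp h02
    refine ⟨y₀ + E₁₂.incl (m₁, m₂), ?_, ?_⟩
    · rw [map_add, hF₁i, hm₁]
      ring
    · rw [map_add, hF₂i, hm₂]
      ring
  obtain ⟨τ₀, hτ₁, hτ₂⟩ := exists_lift_fib F₁ F₂ hjinj t₁ t₂ hfib
  have hτ₀a : ∀ w : TrivSqZeroExt k (k × k), τ₀ (D'.a w) =
      algebraMap k E₁₂.E (TrivSqZeroExt.fst w) +
        E₁₂.incl (algebraMap k B₀ (TrivSqZeroExt.snd w).1, algebraMap k B₀ (TrivSqZeroExt.snd w).2) := by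
    intro w
    apply hjinj
    · rw [hτ₁, ht₁a, dmap_eq, map_add, hF₁a, hF₁i]
      rfl
    · rw [hτ₂, ht₂a, dmap_eq, map_add, hF₂a, hF₂i]
      rfl
  refine map_cl_eq_of_hom ArtFun.Art.plus D' (extData (Λ := Λ) Ep) (Fp.comp τ₀) ?_ ?_
  · intro w
    show Fp (τ₀ (D'.a w)) = dmap Ep ((ArtFun.Art.plus (Λ := Λ) (k := k)).toAlgHom w)
    have hw : ∀ w : TrivSqZeroExt k (k × k), Fp (τ₀ (D'.a w)) =
        dmap Ep ((ArtFun.Art.plus (Λ := Λ) (k := k)).toAlgHom w) := by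
      intro w
      rw [hτ₀a, map_add, hFpa, hFpi, dmap_eq, ← map_add]
      rfl
    exact hw w
  · intro r
    show Ep.proj (Fp (τ₀ r)) = D'.π r
    rw [hFpp, ← hF₁p, hτ₁, ht₁π]

end Groth.Agent.Lib.Helper97.DefHull
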