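import Groth.Agent.Lib.Helper97.DefHull.Tangent2

/-!
# The tangent space of the deformation functor of an affine scheme
-/

set_option autoImplicit false

namespace Groth.Agent.Lib.Helper97.DefHull

open CategoryTheory AlgebraicGeometry
open Groth.Agent.Lib.Helper97.DefLCI Groth.Agent.Lib.Helper97.DefDual
open Groth.Agent.Lib.Helper76.ExalT1

universe u

variable (Λ k : Type u) [CommRing Λ] [Field k] [Algebra Λ k]
variable (B₀ : Type u) [CommRing B₀] [Algebra k B₀]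

/-- The extension underlying the choice-free presentation. -/
noncomputable abbrev PC : Algebra.Extension.{u} k B₀ := (CotT.canon k B₀).toExtension

/-- Linear maps on the conormal module. -/
abbrev HomC : Type u := (PC k B₀).Cotangent →ₗ[B₀] B₀

/-- The maps factoring through the conormal map. -/
noncomputable abbrev NC : Submodule B₀ (HomC k B₀) :=
  LinearMap.range (LinearMap.lcomp B₀ B₀ (PC k B₀).cotangentComplex)

/-- The model of the tangent space. -/
abbrev TC : Type u := HomC k B₀ ⧸ NC k B₀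

/-- The first-order deformation attached to a linear map on the conormal module. -/
noncomputable def Psi (φ : HomC k B₀) : (DefF Λ k B₀).obj (ArtFun.Art.dual Λ k) :=
  (ofAlgL (extData (Λ := Λ) (Eext (PC k B₀) (res (PC k B₀) φ)))).cl

theorem Psi_eq_iff (φ φ' : HomC k B₀) :
    Psi Λ k B₀ φ = Psi Λ k B₀ φ' ↔ φ - φ' ∈ NC k B₀ := by
  rw [← cl_eq_iff (PC k B₀) φ φ']
  constructor
  · intro h
    exact Quotient.sound (nonempty_equiv_of_cl_extData_eq (Λ := Λ) h)
  · intro h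
    obtain ⟨θ⟩ := Quotient.exact h
    exact cl_extData_eq_of_equiv θ

theorem Psi_surjective : Function.Surjective (Psi Λ k B₀) := by
  intro y
  obtain ⟨d, rfl⟩ := exists_cl_eq y
  obtain ⟨E, hE⟩ := exists_ext_cl_eq d
  obtain ⟨g, hg⟩ := canon_free k B₀ B₀ E
  obtain ⟨φ₀, hφ₀⟩ := exists_phi E g hg
  obtain ⟨φ, rfl⟩ := exists_cot_lift (PC k B₀) φ₀
  obtain ⟨θ⟩ := equiv_of_lift E g hg _ hφ₀
  exact ⟨φ, (cl_extData_eq_of_equiv θ).trans hE⟩

/-- The tangent space as a quotient of a module of linear maps. -/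
noncomputable def tangentEquiv : (DefF Λ k B₀).obj (ArtFun.Art.dual Λ k) ≃ TC k B₀ :=
  (Equiv.ofBijective
    (Quotient.lift (Psi Λ k B₀) (fun a b hab =>
      (Psi_eq_iff Λ k B₀ a b).mpr ((Submodule.quotientRel_def (NC k B₀)).mp hab)) :
      TC k B₀ → (DefF Λ k B₀).obj (ArtFun.Art.dual Λ k))
    ⟨by
      intro a b hab
      obtain ⟨a, rfl⟩ := Submodule.Quotient.mk_surjective _ a
      obtain ⟨b, rfl⟩ := Submodule.Quotient.mk_surjective _ b
      exact (Submodule.Quotient.eq _).mpr ((Psi_eq_iff Λ k B₀ a b).mp hab),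
    by
      intro y
      obtain ⟨φ, rfl⟩ := Psi_surjective Λ k B₀ y
      exact ⟨Submodule.Quotient.mk φ, rfl⟩⟩).symm

theorem tangentEquiv_Psi (φ : HomC k B₀) :
    tangentEquiv Λ k B₀ (Psi Λ k B₀ φ) = Submodule.Quotient.mk φ := by
  rw [tangentEquiv, Equiv.symm_apply_eq]
  rfl

theorem map_scale_Psi (c : k) (φ : HomC k B₀) :
    (DefF Λ k B₀).map (ArtFun.Art.scale c) (Psi Λ k B₀ φ) = Psi Λ k B₀ (c • φ) := by
  obtain ⟨F, hFa, hFp, hFi⟩ := exists_EextMap (PC k B₀)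
    (c • (LinearMap.id : B₀ →ₗ[B₀] B₀)) φ (c • φ) (by
      ext x
      rfl)
  exact map_scale_cl_extData c _ _ F hFa hFp hFi

theorem map_plus_of_pr (z : (DefF Λ k B₀).obj (ArtFun.Art.dual2 Λ k)) (φ₁ φ₂ : HomC k B₀)
    (h1 : (DefF Λ k B₀).map ArtFun.Art.pr₁ z = Psi Λ k B₀ φ₁)
    (h2 : (DefF Λ k B₀).map ArtFun.Art.pr₂ z = Psi Λ k B₀ φ₂) :
    (DefF Λ k B₀).map ArtFun.Art.plus z = Psi Λ k B₀ (φ₁ + φ₂) := by
  obtain ⟨F₁, hF₁a, hF₁p, hF₁i⟩ := exists_EextMap (PC k B₀)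
    (LinearMap.fst B₀ B₀ B₀) (φ₁.prod φ₂) φ₁ (by
      ext x
      rfl)
  obtain ⟨F₂, hF₂a, hF₂p, hF₂i⟩ := exists_EextMap (PC k B₀)
    (LinearMap.snd B₀ B₀ B₀) (φ₁.prod φ₂) φ₂ (by
      ext x
      rfl)
  obtain ⟨Fp, hFpa, hFpp, hFpi⟩ := exists_EextMap (PC k B₀)
    (LinearMap.fst B₀ B₀ B₀ + LinearMap.snd B₀ B₀ B₀) (φ₁.prod φ₂) (φ₁ + φ₂) (by
      ext x
      rfl)
  exact map_plus_cl_of_pr _ _ _ _ F₁ F₂ Fp hF₁a hF₁p hF₁i hF₂a hF₂p hF₂i hFpa hFpp hFpi z h1 h2

/-- The vector space structure on the tangent space, transported from the model. -/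
noncomputable def tangentStr : ArtFun.TangentStr (DefF Λ k B₀) :=
  letI i1 : AddCommGroup ((DefF Λ k B₀).obj (ArtFun.Art.dual Λ k)) :=
    (tangentEquiv Λ k B₀).addCommGroup
  letI i2 : Module k ((DefF Λ k B₀).obj (ArtFun.Art.dual Λ k)) :=
    Equiv.module k (tangentEquiv Λ k B₀)
  { addCommGroup := i1
    module := i2
    smul_eq := by
      intro c x
      obtain ⟨φ, rfl⟩ := Psi_surjective Λ k B₀ x
      rw [map_scale_Psi]
      show (tangentEquiv Λ k B₀).symm (c • tangentEquiv Λ k B₀ (Psi Λ k B₀ φ)) = _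
      rw [Equiv.symm_apply_eq, tangentEquiv_Psi, tangentEquiv_Psi]
      rfl
    add_eq := by
      intro z
      obtain ⟨φ₁, h1⟩ := Psi_surjective Λ k B₀ ((DefF Λ k B₀).map ArtFun.Art.pr₁ z)
      obtain ⟨φ₂, h2⟩ := Psi_surjective Λ k B₀ ((DefF Λ k B₀).map ArtFun.Art.pr₂ z)
      rw [map_plus_of_pr Λ k B₀ z φ₁ φ₂ h1.symm h2.symm, ← h1, ← h2]
      show (tangentEquiv Λ k B₀).symm (tangentEquiv Λ k B₀ (Psi Λ k B₀ φ₁) +
        tangentEquiv Λ k B₀ (Psi Λ k B₀ φ₂)) = _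
      rw [Equiv.symm_apply_eq, tangentEquiv_Psi, tangentEquiv_Psi, tangentEquiv_Psi]
      rfl }

theorem hfin_of_finite [Module.Finite k (TC k B₀)] :
    letI := tangentStr Λ k B₀
    ArtFun.Hfin (DefF Λ k B₀) := by
  letI := tangentStr Λ k B₀
  show Module.Finite k (ArtFun.TangentSpace (DefF Λ k B₀))
  let e : TC k B₀ ≃ₗ[k] ArtFun.TangentSpace (DefF Λ k B₀) :=
    { toFun := (tangentEquiv Λ k B₀).symm
      invFun := tangentEquiv Λ k B₀
      left_inv := (tangentEquiv Λ k B₀).apply_symm_apply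
      right_inv := (tangentEquiv Λ k B₀).symm_apply_apply
      map_add' := fun x y => by
        show _ = (tangentEquiv Λ k B₀).symm
          (tangentEquiv Λ k B₀ ((tangentEquiv Λ k B₀).symm x) +
            tangentEquiv Λ k B₀ ((tangentEquiv Λ k B₀).symm y))
        rw [Equiv.apply_symm_apply, Equiv.apply_symm_apply]
      map_smul' := fun c x => by
        show _ = (tangentEquiv Λ k B₀).symm
          (c • tangentEquiv Λ k B₀ ((tangentEquiv Λ k B₀).symm x))
        rw [Equiv.apply_symm_apply] }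
  exact Module.Finite.equiv e

/-- The model of the tangent space is `T¹`. -/
theorem nonempty_TC_equiv_T1 :
    Nonempty (TC k B₀ ≃ₗ[B₀] CotT.T1 (CotT.canon k B₀) B₀) := by
  obtain ⟨-, hker, hsurj⟩ := Groth.Agent.S12289.result k B₀ B₀ (CotT.CanonRels k B₀)
    (CotT.canon k B₀) B₀
  let e₂ := Submodule.quotEquivOfEq _ _ hker.symm
  let e₃ := LinearMap.quotKerEquivOfSurjective _ hsurj
  exact ⟨e₂.trans e₃⟩

theorem finite_TC_of_finite_T1 [Module.Finite k (CotT.T1 (CotT.canon k B₀) B₀)] :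
    Module.Finite k (TC k B₀) := by
  obtain ⟨e⟩ := nonempty_TC_equiv_T1 k B₀
  exact Module.Finite.equiv (e.restrictScalars k).symm

end Groth.Agent.Lib.Helper97.DefHull
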